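import Groth.Agent.MiscA.ZetaAbsCx
import Mathlib.RingTheory.PowerSeries.Exp
import Mathlib.RingTheory.PowerSeries.Substitution
import Mathlib.RingTheory.PowerSeries.Trunc

/-!
# Logarithmic derivative calculus for power series
-/

set_option autoImplicit false

namespace K466.LogD

open PowerSeries Groth.Agent.MiscA.ZetaAbsCx

section general

variable {R : Type*} [CommRing R]

theorem coeff_X_mul_derivative (f : R⟦X⟧) (n : ℕ) :
    coeff n ((X : R⟦X⟧) * derivative R f) = n * coeff n f := by
  rcases n with _ | n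
  · simp
  · rw [coeff_succ_X_mul, coeff_derivative]
    push_cast
    ring

theorem coeff_eq {f v : R⟦X⟧} (h : LogD f v) (n : ℕ) :
    (n : R) * coeff n f = ∑ p ∈ Finset.antidiagonal n, coeff p.1 f * coeff p.2 v := by
  rw [← coeff_X_mul_derivative, h, coeff_mul]

theorem of_coeff {f v : R⟦X⟧} (h : ∀ n : ℕ, (n : R) * coeff n f =
    ∑ p ∈ Finset.antidiagonal n, coeff p.1 f * coeff p.2 v) : LogD f v := by
  unfold LogD
  ext n
  rw [coeff_X_mul_derivative, h n, coeff_mul]

theorem pow {f v : R⟦X⟧} (h : LogD f v) (a : ℕ) : LogD (f ^ a) ((a : R⟦X⟧) * v) := by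
  induction a with
  | zero => simpa using LogD.one
  | succ a ih =>
    rw [pow_succ]
    have := ih.mul h
    push_cast
    rwa [show ((a : R⟦X⟧) + 1) * v = a * v + v by ring]

theorem constantCoeff_eq_zero {f v : R⟦X⟧} (h : LogD f v) (hf : constantCoeff f = 1) :
    constantCoeff v = 0 := by
  have h1 := coeff_eq h 0
  simp [hf] at h1
  exact h1.symm

/-- `X`-adic vanishing. -/
theorem trunc_eq_one [IsDomain R] [CharZero R] {f v : R⟦X⟧} (h : LogD f v)
    (hf : constantCoeff f = 1) (n : ℕ) (hv : ∀ m, m ≤ n → coeff m v = 0) :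
    trunc (n + 1) f = 1 := by
  have key : ∀ m, 1 ≤ m → m ≤ n → coeff m f = 0 := by
    intro m hm hmn
    have h1 := coeff_eq h m
    rw [Finset.sum_eq_zero] at h1
    · rcases mul_eq_zero.mp h1 with h2 | h2
      · exact absurd (Nat.cast_eq_zero.mp h2) (by omega)
      · exact h2
    · intro p hp
      rw [Finset.mem_antidiagonal] at hp
      rw [hv p.2 (by omega), mul_zero]
  ext m
  rw [coeff_trunc, Polynomial.coeff_one]
  rcases m with _ | m
  · simp [hf]
  · rw [if_neg (show ¬ (m + 1 = 0) by omega)]
    split_ifs with h1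
    · exact key _ (by omega) (by omega)
    · rfl

theorem coeff_eq_zero_of [IsDomain R] [CharZero R] {f v : R⟦X⟧} (h : LogD f v)
    (hf : constantCoeff f = 0) (hv : constantCoeff v = 0) : f = 0 := by
  ext n
  induction n using Nat.strong_induction_on with
  | _ n ih =>
    rcases n with _ | n
    · simpa using hf
    · have h1 := coeff_eq h (n + 1)
      rw [Finset.sum_eq_zero] at h1
      · rcases mul_eq_zero.mp h1 with h2 | h2
        · exact absurd (Nat.cast_eq_zero.mp h2) (by omega)
        · simpa using h2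
      · intro p hp
        rw [Finset.mem_antidiagonal] at hp
        rcases Nat.eq_zero_or_pos p.2 with h2 | h2
        · rw [h2, coeff_zero_eq_constantCoeff, hv, mul_zero]
        · rw [ih p.1 (by omega)]
          simp

theorem sub {f g v : R⟦X⟧} (hf : LogD f v) (hg : LogD g v) : LogD (f - g) v := by
  unfold LogD at *
  rw [map_sub, mul_sub, hf, hg, sub_mul]

/-- A power series with constant coefficient one is determined by its logarithmic derivative. -/
theorem ext [IsDomain R] [CharZero R] {f g v : R⟦X⟧} (hf : LogD f v) (hg : LogD g v)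
    (h1 : constantCoeff f = 1) (h2 : constantCoeff g = 1) : f = g := by
  rw [← sub_eq_zero]
  refine coeff_eq_zero_of (sub hf hg) ?_ (constantCoeff_eq_zero hf h1)
  rw [map_sub, h1, h2, sub_self]

/-- `1 - X ^ r` -/
theorem one_sub_X_pow (r : ℕ) (hr : 1 ≤ r) :
    LogD (1 - X ^ r : R⟦X⟧) (mk fun n => if n ≠ 0 ∧ r ∣ n then - (r : R) else 0) := by
  apply of_coeff
  intro n
  rw [Finset.Nat.sum_antidiagonal_eq_sum_range_succ_mk]
  simp only [coeff_mk]
  have h0 : ∀ i, coeff i (1 - X ^ r : R⟦X⟧) = (if i = 0 then 1 else 0) - (if i = r then 1 else 0) := by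
    intro i
    rw [map_sub, coeff_one, coeff_X_pow]
  simp only [h0, sub_mul, Finset.sum_sub_distrib]
  have h1 : ∑ x ∈ Finset.range n.succ, (if x = 0 then (1 : R) else 0) *
      (if n - x ≠ 0 ∧ r ∣ n - x then - (r : R) else 0) =
      if n ≠ 0 ∧ r ∣ n then - (r : R) else 0 := by
    rw [Finset.sum_eq_single 0]
    · simp
    · intro b _ hb; rw [if_neg hb, zero_mul]
    · intro h; simp at h
  have h2 : ∑ x ∈ Finset.range n.succ, (if x = r then (1 : R) else 0) *
      (if n - x ≠ 0 ∧ r ∣ n - x then - (r : R) else 0) =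
      if r < n ∧ r ∣ n then - (r : R) else 0 := by
    by_cases hrn : r < n
    · rw [Finset.sum_eq_single r]
      · rw [if_pos rfl, one_mul]
        have e1 : (n - r ≠ 0 ∧ r ∣ n - r) ↔ (r < n ∧ r ∣ n) := by
          rw [Nat.dvd_sub_self_right]
          constructor
          · rintro ⟨_, h2⟩
            exact ⟨hrn, h2.resolve_right (by omega)⟩
          · rintro ⟨_, h2⟩
            exact ⟨by omega, Or.inl h2⟩
        simp only [e1]
      · intro b _ hb; rw [if_neg hb, zero_mul]
      · intro h
        exact absurd (Finset.mem_range.mpr (by omega)) h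
    · rw [if_neg (fun h => hrn h.1)]
      refine Finset.sum_eq_zero fun x hx => ?_
      rw [Finset.mem_range] at hx
      split_ifs with h3 h4
      · exact absurd h4.1 (by omega)
      · simp
      · simp
      · simp
  rw [h1, h2]
  by_cases hn : n = r
  · subst hn
    rw [if_neg (by omega), if_pos rfl, if_pos ⟨by omega, dvd_refl _⟩, if_neg (by omega)]
    ring
  · rw [if_neg hn]
    by_cases hn0 : n = 0
    · subst hn0
      simp
    · rw [if_neg hn0, sub_self, mul_zero]
      by_cases hd : r ∣ n
      · have := Nat.le_of_dvd (by omega) hd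
        rw [if_pos ⟨hn0, hd⟩, if_pos ⟨by omega, hd⟩, sub_self]
      · rw [if_neg (fun h => hd h.2), if_neg (fun h => hd h.2), sub_self]

theorem rescale {f v : R⟦X⟧} (h : LogD f v) (c : R) :
    LogD (PowerSeries.rescale c f) (PowerSeries.rescale c v) := by
  apply of_coeff
  intro n
  have h1 := coeff_eq h n
  rw [coeff_rescale, mul_left_comm, h1, Finset.mul_sum]
  refine Finset.sum_congr rfl fun p hp => ?_
  rw [Finset.mem_antidiagonal] at hp
  rw [coeff_rescale, coeff_rescale, ← hp, pow_add]
  ring

end general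

section field

variable {K : Type*} [Field K] [CharZero K]

theorem constantCoeff_exp_subst {g : K⟦X⟧} (hg : constantCoeff g = 0) :
    constantCoeff (subst g (exp K)) = 1 := by
  have hs : HasSubst g := HasSubst.of_constantCoeff_zero' hg
  have h3 : subst g (exp K) = 1 + subst g (exp K - 1) := by
    rw [subst_sub hs]
    have h1 : subst g (1 : K⟦X⟧) = 1 := by
      rw [← coe_substAlgHom hs, map_one]
    rw [h1]; ring
  rw [h3, map_add, map_one]
  have h4 := constantCoeff_subst_eq_zero (a := g) hg (exp K - 1) (by simp)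
  have h5 : constantCoeff (subst g (exp K - 1)) = 0 := h4
  rw [h5, add_zero]

theorem logD_exp_subst {g : K⟦X⟧} (hg : constantCoeff g = 0) :
    LogD (subst g (exp K)) (X * derivative K g) := by
  have hs : HasSubst g := HasSubst.of_constantCoeff_zero' hg
  unfold LogD
  rw [derivative_subst hs, derivative_exp]
  ring

theorem X_mul_derivative_mk (a : ℕ → K) :
    (X : K⟦X⟧) * derivative K (mk fun m => a m / m) = mk fun m => if m = 0 then 0 else a m := by
  ext n
  rw [coeff_X_mul_derivative, coeff_mk, coeff_mk]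
  split_ifs with h
  · subst h; simp
  · field_simp

theorem constantCoeff_mk_div (a : ℕ → K) : constantCoeff (mk fun m : ℕ => a m / m) = 0 := by
  rw [← coeff_zero_eq_constantCoeff_apply, coeff_mk]
  simp

theorem logD_exp (a : ℕ → K) : LogD (subst (mk fun m : ℕ => a m / m) (exp K))
    (mk fun m => if m = 0 then 0 else a m) := by
  have := logD_exp_subst (constantCoeff_mk_div a)
  rwa [X_mul_derivative_mk] at this

theorem constantCoeff_exp (a : ℕ → K) :
    constantCoeff (subst (mk fun m : ℕ => a m / m) (exp K)) = 1 :=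
  constantCoeff_exp_subst (constantCoeff_mk_div a)

theorem exp_eq_iff (a : ℕ → K) (g : K⟦X⟧) :
    subst (mk fun m : ℕ => a m / m) (exp K) = g ↔
      LogD g (mk fun m => if m = 0 then 0 else a m) ∧ constantCoeff g = 1 := by
  constructor
  · rintro rfl
    exact ⟨logD_exp a, constantCoeff_exp a⟩
  · rintro ⟨h1, h2⟩
    exact ext (logD_exp a) h1 (constantCoeff_exp a) h2

end field

end K466.LogD
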