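import Groth.Prelude.Def_W4c1zetahwZeta
import Groth.Agent.MiscA.WCCount
import Groth.Agent.Zeta.K466.LogD
import Mathlib.AlgebraicGeometry.Morphisms.ClosedImmersion

/-!
# Zeta functions of schemes over finite fields: basic facts

* `pointCount_eq_nPts`: the number of points in an extension is `nPts`;
* `logD_zetaFun`: logarithmic derivative of the zeta function;
* `zetaFun_unique`: characterization of the zeta function by its logarithmic derivative.
-/

set_option autoImplicit false
universe u v
open AlgebraicGeometry CategoryTheory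

namespace K466.Basic

open Groth.Agent.MiscA

section degree

variable {k : Type u} [Field k] {X : Scheme.{u}} (f : X ⟶ Spec (CommRingCat.of k))

theorem bijective_preimage (y : Spec (CommRingCat.of k)) :
    Function.Bijective (Spec.preimage ((Spec (CommRingCat.of k)).fromSpecResidueField y)).hom := by
  have h1 : IsClosedImmersion ((Spec (CommRingCat.of k)).fromSpecResidueField y) := by
    rw [← isClosed_singleton_iff_isClosedImmersion]
    have : Subsingleton (Spec (CommRingCat.of k)) :=
      inferInstanceAs (Subsingleton (PrimeSpectrum k))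
    exact isClosed_discrete _
  have hs : Surjective ((Spec (CommRingCat.of k)).fromSpecResidueField y) := by
    refine ⟨fun z => ?_⟩
    have : Subsingleton (Spec (CommRingCat.of k)) :=
      inferInstanceAs (Subsingleton (PrimeSpectrum k))
    obtain ⟨s⟩ : Nonempty (Spec ((Spec (CommRingCat.of k)).residueField y)) := inferInstance
    exact ⟨s, Subsingleton.elim _ _⟩
  have h2 : IsIso (Spec.map (Spec.preimage
      ((Spec (CommRingCat.of k)).fromSpecResidueField y))) := by
    rw [Spec.map_preimage]; exact isIso_of_isClosedImmersion_of_surjective _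
  exact isIso_SpecMap_iff.mp h2

theorem degree_eq_residueDegree (x : X) :
    PointCount.degree f x = EGA4loc.residueDegree f x := by
  unfold PointCount.degree EGA4loc.residueDegree
  set y := f.base x with hy
  let e : k ≃+* (Spec (CommRingCat.of k)).residueField y :=
    RingEquiv.ofBijective _ (bijective_preimage y)
  let _ := (PointCount.resHom f x).toAlgebra
  let _ := (f.residueFieldMap x).hom.toAlgebra
  refine Algebra.finrank_eq_of_equiv_equiv e (RingEquiv.refl _) ?_
  have h : (Spec.preimage ((Spec (CommRingCat.of k)).fromSpecResidueField y)) ≫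
      f.residueFieldMap x = CommRingCat.ofHom (PointCount.resHom f x) := by
    apply Spec.map_injective
    rw [Spec.map_comp, Spec.map_preimage, PointCount.spec_map_resHom]
    exact Scheme.Hom.SpecMap_residueFieldMap_fromSpecResidueField f x
  ext a
  exact congrArg (fun q => q.hom a) h

theorem isClosed_of_residueDegree_pos [LocallyOfFiniteType f] (x : X)
    (hx : 0 < EGA4loc.residueDegree f x) : IsClosed ({x} : Set X) :=
  WCCount.isClosed_of_degree_pos f x (by rwa [degree_eq_residueDegree])

theorem residueDegree_pos [LocallyOfFiniteType f] (x : X) (hx : IsClosed ({x} : Set X)) :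
    0 < EGA4loc.residueDegree f x := by
  rw [← degree_eq_residueDegree]
  exact WCCount.degree_pos f x hx

theorem degCount_eq_ncard [LocallyOfFiniteType f] (d : ℕ) (hd : 0 < d) :
    Zeta.degCount f d = Set.ncard {x : X | PointCount.degree f x = d} := by
  unfold Zeta.degCount
  rw [← Nat.card_coe_set_eq]
  refine Nat.card_congr (Equiv.subtypeEquivRight fun x => ?_)
  rw [Set.mem_ofPred_eq, degree_eq_residueDegree]
  constructor
  · exact fun h => h.2
  · exact fun h => ⟨isClosed_of_residueDegree_pos f x (by omega), h⟩

theorem degCount_zero [LocallyOfFiniteType f] : Zeta.degCount f 0 = 0 := by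
  unfold Zeta.degCount
  have : IsEmpty { x : X // IsClosed ({x} : Set X) ∧ EGA4loc.residueDegree f x = 0 } :=
    ⟨fun x => (residueDegree_pos f x.1 x.2.1).ne' x.2.2⟩
  exact Nat.card_of_isEmpty

theorem finite_degCount [Finite k] [LocallyOfFiniteType f] [QuasiCompact f] (d : ℕ) :
    Finite { x : X // IsClosed ({x} : Set X) ∧ EGA4loc.residueDegree f x = d } := by
  rcases Nat.eq_zero_or_pos d with rfl | hd
  · have : IsEmpty { x : X // IsClosed ({x} : Set X) ∧ EGA4loc.residueDegree f x = 0 } :=
      ⟨fun x => (residueDegree_pos f x.1 x.2.1).ne' x.2.2⟩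
    infer_instance
  · have h1 := PointCount.finite_degree_eq f d hd
    refine (h1.subset ?_).to_subtype
    rintro x ⟨_, hx⟩
    exact (degree_eq_residueDegree f x).trans hx

/-- `S13050` -/
theorem pointCount_eq_nPts [Finite k] [LocallyOfFiniteType f] [QuasiCompact f]
    (k' : Type u) [Field k'] [Algebra k k'] [Finite k'] :
    SgaExt.pointCount f k' = Zeta.nPts f (Module.finrank k k') := by
  rw [PointCount.pointCount_eq, Zeta.nPts]
  refine Finset.sum_congr rfl fun d hd => ?_
  rw [degCount_eq_ncard f d (Nat.pos_of_mem_divisors hd)]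

theorem nPts_zero : Zeta.nPts f 0 = 0 := by
  simp [Zeta.nPts]

end degree

section zeta

open PowerSeries ZetaAbsCx

variable {k : Type u} [Field k] {X : Scheme.{u}} (f : X ⟶ Spec (CommRingCat.of k))

theorem mk_nPts : (PowerSeries.mk fun m => if m = 0 then 0 else (Zeta.nPts f m : ℚ)) =
    PowerSeries.mk fun m => (Zeta.nPts f m : ℚ) := by
  ext m
  rw [coeff_mk, coeff_mk]
  split_ifs with h
  · subst h; rw [nPts_zero, Nat.cast_zero]
  · rfl

theorem logD_zetaFun : LogD (Zeta.zetaFun f) (PowerSeries.mk fun m => (Zeta.nPts f m : ℚ)) := by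
  have := K466.LogD.logD_exp (K := ℚ) (fun m => (Zeta.nPts f m : ℚ))
  rwa [mk_nPts] at this

theorem constantCoeff_zetaFun : constantCoeff (Zeta.zetaFun f) = 1 :=
  K466.LogD.constantCoeff_exp (K := ℚ) (fun m => (Zeta.nPts f m : ℚ))

theorem zetaFun_eq_iff (g : ℚ⟦X⟧) : Zeta.zetaFun f = g ↔
    LogD g (PowerSeries.mk fun m => (Zeta.nPts f m : ℚ)) ∧ constantCoeff g = 1 := by
  constructor
  · rintro rfl
    exact ⟨logD_zetaFun f, constantCoeff_zetaFun f⟩
  · rintro ⟨h1, h2⟩
    exact K466.LogD.ext (logD_zetaFun f) h1 (constantCoeff_zetaFun f) h2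

end zeta

end K466.Basic
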