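import Groth.Agent.Models.FFRR2
import Mathlib.LinearAlgebra.Dimension.Finite
import Mathlib.LinearAlgebra.FiniteDimensional.Basic
import Mathlib.Algebra.Polynomial.AlgebraMap

/-!
# Abstract function fields: number of zeros, a bound for the genus

For `C : Crv k K X` with finite cohomology:
* `ncard_zeros_le`: a nonzero function in `L(D)` has at most `deg D` zeros;
* `mem_L_of_monic`: integrality estimate;
* `genus_le`: bound for `i(0)` from a plane model.
-/

set_option autoImplicit false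
open WithZero Polynomial

namespace K466.PCDeg

open Groth.Agent.Models.FFLen Groth.Agent.Models.FFRR

variable {k K X : Type*} [Field k] [Field K] [Algebra k K] {C : Crv k K X}

/-- The pole divisor. -/
noncomputable def pole (C : Crv k K X) (f : K) : X →₀ ℤ := (-(C.div f)) ⊔ 0

/-- The zero divisor. -/
noncomputable def zer (C : Crv k K X) (f : K) : X →₀ ℤ := (C.div f) ⊔ 0

theorem pole_nonneg (f : K) : 0 ≤ pole C f := le_sup_right

theorem zer_nonneg (f : K) : 0 ≤ zer C f := le_sup_right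

theorem pole_apply (f : K) (P : X) : pole C f P = max (-(C.div f P)) 0 := rfl

theorem zer_apply (f : K) (P : X) : zer C f P = max (C.div f P) 0 := rfl

theorem zer_sub_pole (f : K) : zer C f - pole C f = C.div f := by
  ext P
  rw [Finsupp.sub_apply, pole_apply, zer_apply]
  omega

theorem deg_zer (hC : C.Fin) {f : K} (hf : f ≠ 0) : C.deg (zer C f) = C.deg (pole C f) := by
  have h := hC.deg_div hf
  rw [← zer_sub_pole, map_sub] at h
  omega

theorem mem_L_pole (f : K) : f ∈ C.L (pole C f) := by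
  rw [Crv.mem_L]
  intro P
  by_cases hf : f = 0
  · rw [hf, map_zero]; exact zero_le
  · rw [C.v_eq_exp hf, exp_le_exp, pole_apply]
    exact le_max_left _ _

theorem card_support_le (hC : C.Fin) {D : X →₀ ℤ} (hD : 0 ≤ D) : (D.support.card : ℤ) ≤ C.deg D := by
  unfold Crv.deg
  rw [Finsupp.liftAddHom_apply]
  unfold Finsupp.sum
  rw [Finset.cast_card]
  refine Finset.sum_le_sum fun P hP => ?_
  have h1 : 0 < D P := lt_of_le_of_ne (hD P) (Ne.symm (Finsupp.mem_support_iff.mp hP))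
  have h2 := hC.dg0_pos P
  simp only [AddMonoidHom.coe_mulRight]
  have h3 : (1 : ℤ) ≤ C.dg0 P := by exact_mod_cast h2
  nlinarith

theorem ncard_support_le (hC : C.Fin) {D : X →₀ ℤ} (hD : 0 ≤ D) {S : Set X} (hS : ∀ P ∈ S, 0 < D P) :
    S.Finite ∧ (S.ncard : ℤ) ≤ C.deg D := by
  have h1 : S ⊆ (D.support : Set X) := fun P hP => by
    rw [Finset.mem_coe, Finsupp.mem_support_iff]
    exact (hS P hP).ne'
  refine ⟨D.support.finite_toSet.subset h1, ?_⟩
  refine le_trans ?_ (card_support_le hC hD)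
  have := Set.ncard_le_ncard h1 D.support.finite_toSet
  rw [Set.ncard_coe_finset] at this
  exact_mod_cast this

theorem div_pos_of_v_lt_one {f : K} (hf : f ≠ 0) {P : X} (h : C.v P f < 1) : 0 < C.div f P := by
  rw [C.v_eq_exp hf, ← exp_zero, exp_lt_exp] at h
  omega

theorem div_neg_of_one_lt_v {f : K} (hf : f ≠ 0) {P : X} (h : 1 < C.v P f) : C.div f P < 0 := by
  rw [C.v_eq_exp hf, ← exp_zero, exp_lt_exp] at h
  omega

theorem pole_le_of_mem_L {f : K} (hf : f ≠ 0) {D : X →₀ ℤ} (hD : 0 ≤ D) (hfD : f ∈ C.L D) :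
    pole C f ≤ D := by
  intro P
  have h1 := (Crv.mem_L C).mp hfD P
  rw [C.v_eq_exp hf, exp_le_exp] at h1
  have h2 := hD P
  rw [pole_apply]
  exact max_le h1 h2

/-- A nonzero function in `L(D)` has at most `deg D` zeros. -/
theorem ncard_zeros_le (hC : C.Fin) {f : K} (hf : f ≠ 0) {D : X →₀ ℤ} (hD : 0 ≤ D) (hfD : f ∈ C.L D) :
    {P | C.v P f < 1}.Finite ∧ ({P | C.v P f < 1}.ncard : ℤ) ≤ C.deg D := by
  have h1 := ncard_support_le hC (zer_nonneg (C := C) f) (S := {P | C.v P f < 1}) (fun P hP => by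
    have := div_pos_of_v_lt_one hf hP
    rw [zer_apply]; omega)
  refine ⟨h1.1, h1.2.trans ?_⟩
  rw [deg_zer hC hf]
  exact hC.deg_mono (pole_le_of_mem_L hf hD hfD)

theorem ncard_poles_le (hC : C.Fin) {f : K} (hf : f ≠ 0) :
    {P | 1 < C.v P f}.Finite ∧ ({P | 1 < C.v P f}.ncard : ℤ) ≤ C.deg (pole C f) :=
  ncard_support_le hC (pole_nonneg f) (fun P hP => by
    have := div_neg_of_one_lt_v hf hP
    rw [pole_apply]; omega)

theorem mul_mem_L {f g : K} {D E : X →₀ ℤ} (hf : f ∈ C.L D) (hg : g ∈ C.L E) : f * g ∈ C.L (D + E) := by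
  rw [Crv.mem_L] at *
  intro P
  rw [map_mul, Finsupp.add_apply, exp_add]
  exact mul_le_mul' (hf P) (hg P)

theorem one_mem_L {D : X →₀ ℤ} (hD : 0 ≤ D) : (1 : K) ∈ C.L D := by
  rw [Crv.mem_L]
  intro P
  rw [map_one, ← exp_zero, exp_le_exp]
  exact hD P

theorem pow_mem_L {f : K} {D : X →₀ ℤ} (hf : f ∈ C.L D) (j : ℕ) : f ^ j ∈ C.L (j • D) := by
  induction j with
  | zero => rw [pow_zero, zero_smul]; exact one_mem_L le_rfl
  | succ j ih => rw [pow_succ, succ_nsmul]; exact mul_mem_L ih hf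

theorem nsmul_mono {D : X →₀ ℤ} (hD : 0 ≤ D) {a b : ℕ} (h : a ≤ b) : a • D ≤ b • D :=
  nsmul_le_nsmul_left hD h

theorem aeval_mem_L {x : K} {D : X →₀ ℤ} (hx : x ∈ C.L D) (hD : 0 ≤ D) (p : k[X]) (m : ℕ)
    (hp : p.natDegree ≤ m) : aeval x p ∈ C.L (m • D) := by
  rw [aeval_eq_sum_range]
  refine Submodule.sum_mem _ fun i hi => Submodule.smul_mem _ _ ?_
  rw [Finset.mem_range] at hi
  exact C.L_mono (nsmul_mono hD (by omega)) (pow_mem_L hx i)

/-- integrality estimate -/
theorem mem_L_of_monic {w : K} {n : ℕ} {D : X →₀ ℤ} (c : ℕ → K)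
    (hc : ∀ j < n, c j ∈ C.L ((n - j) • D)) (h : w ^ n = ∑ j ∈ Finset.range n, c j * w ^ j) :
    w ∈ C.L D := by
  rw [Crv.mem_L]
  intro P
  by_contra hlt
  rw [not_le] at hlt
  have hw0 : 0 < C.v P w := lt_of_le_of_lt zero_le hlt
  have h1 : C.v P (∑ j ∈ Finset.range n, c j * w ^ j) < C.v P w ^ n := by
    refine Valuation.map_sum_lt _ (pow_pos hw0 n).ne' fun j hj => ?_
    rw [Finset.mem_range] at hj
    have h2 := (Crv.mem_L C).mp (hc j hj) P
    have h3 : exp (((n - j) • D) P) = (exp (D P)) ^ (n - j) := by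
      rw [← exp_nsmul]; rfl
    rw [h3] at h2
    rw [map_mul, map_pow]
    have h4 : (exp (D P)) ^ (n - j) < C.v P w ^ (n - j) :=
      pow_lt_pow_left₀ hlt zero_le (by omega)
    calc C.v P (c j) * C.v P w ^ j ≤ (exp (D P)) ^ (n - j) * C.v P w ^ j := by gcongr
      _ < C.v P w ^ (n - j) * C.v P w ^ j := by
          exact mul_lt_mul_of_pos_right h4 (pow_pos hw0 j)
      _ = C.v P w ^ n := by rw [← pow_add]; congr 1; omega
  rw [← h, map_pow] at h1
  exact lt_irrefl _ h1

theorem l_eq_finrank [Nonempty X] (hC : C.Fin) (D : X →₀ ℤ) :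
    Module.Finite k (C.L D) ∧ C.l D = Module.finrank k (C.L D) := by
  have h1 := hC.h0_ne_top D
  rw [Crv.h0_eq] at h1
  have h2 : IsFiniteLength k (C.L D) := Module.length_ne_top_iff.1 h1
  have := (isFiniteLength_iff_isNoetherian_isArtinian.1 h2).1
  have h3 : Module.Finite k (C.L D) := inferInstance
  refine ⟨h3, ?_⟩
  unfold Crv.l
  rw [Crv.h0_eq, Module.length_eq_finrank]
  rfl

theorem card_le_l [Nonempty X] (hC : C.Fin) (D : X →₀ ℤ) {ι : Type*} [Fintype ι] (b : ι → K)
    (hb : ∀ i, b i ∈ C.L D) (hli : LinearIndependent k b) : Fintype.card ι ≤ C.l D := by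
  obtain ⟨h1, h2⟩ := l_eq_finrank hC D
  rw [h2]
  let b' : ι → C.L D := fun i => ⟨b i, hb i⟩
  have : LinearIndependent k b' := LinearIndependent.of_comp (C.L D).subtype hli
  exact this.fintype_card_le_finrank

/-- bound for the genus -/
theorem genus_le [Nonempty X] (hC : C.Fin) (hl : C.l 0 = 1) {x w : K} (D : X →₀ ℤ) (hD : 0 ≤ D)
    (hpos : 0 < C.deg D) (hx : x ∈ C.L D) (n e : ℕ) (hn : 0 < n) (hdeg : C.deg D ≤ n)
    (hw : w ∈ C.L (e • D))
    (hli : ∀ b : Fin n → k[X], ∑ j, aeval x (b j) * w ^ (j : ℕ) = 0 → ∀ j, b j = 0) :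
    C.i 0 ≤ e * n * n := by
  obtain ⟨c, hc0, hc⟩ := hC.exists_bound
  set M := c.toNat with hM
  have hMc : (M : ℤ) = c := Int.toNat_of_nonneg hc0
  set D' := (M + e * n) • D with hD'
  have hdD' : C.deg D' = (M + e * n : ℕ) * C.deg D := by
    rw [hD', map_nsmul, nsmul_eq_mul]
  have hi : C.i D' = 0 := by
    apply hc
    rw [hdD', ← hMc]
    push_cast
    nlinarith [mul_nonneg (Int.natCast_nonneg e) (Int.natCast_nonneg n), Int.natCast_nonneg M]
  have hcard : n * (M + 1) ≤ C.l D' := by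
    let b : Fin n × Fin (M + 1) → K := fun p => x ^ (p.2 : ℕ) * w ^ (p.1 : ℕ)
    have h1 := card_le_l hC D' b (fun p => ?_) ?_
    · simpa using h1
    · have h2 : x ^ (p.2 : ℕ) ∈ C.L (M • D) :=
        C.L_mono (nsmul_mono hD (by have := p.2.2; omega)) (pow_mem_L hx _)
      have h3 : w ^ (p.1 : ℕ) ∈ C.L ((e * n) • D) := by
        refine C.L_mono ?_ (pow_mem_L hw _)
        rw [← mul_smul]
        refine nsmul_mono hD ?_
        rw [mul_comm]
        exact Nat.mul_le_mul_left e p.1.2.le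
      have h4 := mul_mem_L h2 h3
      rwa [← add_smul] at h4
    · rw [Fintype.linearIndependent_iff]
      intro g hg p
      let B : Fin n → k[X] := fun j => ∑ i : Fin (M + 1), Polynomial.C (g (j, i)) * (Polynomial.X : k[X]) ^ (i : ℕ)
      have hB : ∑ j, aeval x (B j) * w ^ (j : ℕ) = 0 := by
        rw [← hg, Fintype.sum_prod_type]
        refine Finset.sum_congr rfl fun j _ => ?_
        simp only [B, map_sum, map_mul, aeval_C, map_pow, aeval_X, b, Finset.sum_mul]
        refine Finset.sum_congr rfl fun i _ => ?_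
        rw [Algebra.smul_def]
        ring
      have h2 := hli B hB p.1
      have h3 := congrArg (fun q => Polynomial.coeff q (p.2 : ℕ)) h2
      simp only [B, finsetSum_coeff, coeff_C_mul, coeff_X_pow, coeff_zero, mul_ite, mul_one,
        mul_zero] at h3
      rw [Finset.sum_eq_single p.2] at h3
      · simpa using h3
      · intro i _ hi
        rw [if_neg]
        intro h
        exact hi (Fin.ext h.symm)
      · intro h
        exact absurd (Finset.mem_univ _) h
  have hchi := hC.chi D'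
  rw [hi, hl, hdD'] at hchi
  have h5 : ((M + e * n : ℕ) : ℤ) * C.deg D ≤ ((M + e * n : ℕ) : ℤ) * n :=
    mul_le_mul_of_nonneg_left hdeg (Int.natCast_nonneg _)
  have h6 : ((n * (M + 1) : ℕ) : ℤ) ≤ C.l D' := by exact_mod_cast hcard
  have h7 : (C.i 0 : ℤ) ≤ (e * n * n : ℕ) := by
    push_cast at h5 h6 hchi ⊢
    have hn1 : (1 : ℤ) ≤ n := by exact_mod_cast hn
    nlinarith
  exact_mod_cast h7

end K466.PCDeg
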