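import Groth.Agent.MiscA.WCPlaceRes
import Groth.Agent.Zeta.K466.PCDeg
import Mathlib.Algebra.Polynomial.Inductions

/-!
# The degree of the pole divisor of a separating element

* `deg_zer_le`: `deg (t)_0 ≤ [K : k(t)]`;
* `deg_pole_le`: `deg (t)_∞ ≤ [K : k(t)]`.
-/

set_option autoImplicit false
open WithZero Polynomial

namespace K466.PCPole

open Groth.Agent.MiscA.WCPlace Groth.Agent.MiscA.WCPlaceCrv Groth.Agent.MiscA.WCPlaceRes
  Groth.Agent.Models.FFLen Groth.Agent.Models.FFRR K466.PCDeg

universe u v

variable {k : Type u} {K : Type v} [Field k] [Field K] [Algebra k K]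

/-- Approximation of a repartition modulo the zeros of `t`. -/
theorem exists_approx {t : K} (h : IsSep k K t) (α : Place k K → K)
    (hα : ∀ P : Place k K, P.val (α P) ≤ 1) :
    ∃ f : K, (∀ P : Place k K, t ∈ P.1 → P.val f ≤ 1) ∧
      ∀ P : Place k K, P.val t < 1 → P.val (α P - f) ≤ P.val t := by
  classical
  have ht0 := h.ne_zero
  have hfin : {P : Place k K | P.val t < 1}.Finite := by
    refine ((crv ⟨t, h⟩).finite_pole t⁻¹).subset ?_
    intro P hP
    rw [Set.mem_ofPred_eq, crv_v, map_inv₀, not_le]
    have h0 : 0 < P.val t := zero_lt_iff.mpr ((Valuation.ne_zero_iff _).mpr ht0)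
    exact (one_lt_inv₀ h0).mpr hP
  obtain ⟨f', hf'⟩ := exists_approx_places h (fun P => if P.val t < 1 then α P / t else 0) (by
    refine hfin.subset ?_
    intro P hP
    by_contra hcon
    rw [Set.mem_ofPred_eq] at hcon hP
    rw [if_neg hcon, map_zero] at hP
    exact hP zero_le)
  refine ⟨t * f', ?_, ?_⟩
  · intro P htP
    have h1 := hf' P htP
    have h2 : P.val t ≤ 1 := (h.val_le_one_iff P t).2 htP
    by_cases hlt : P.val t < 1
    · rw [if_pos hlt] at h1
      have h3 : t * f' = α P - t * (α P / t - f') := by field_simp; ring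
      rw [h3]
      refine (P.val.map_sub _ _).trans (max_le (hα P) ?_)
      rw [map_mul]
      exact mul_le_one' h2 h1
    · rw [if_neg hlt, zero_sub, Valuation.map_neg] at h1
      rw [map_mul]
      exact mul_le_one' h2 h1
  · intro P hlt
    have htP : t ∈ P.1 := (h.val_le_one_iff P t).1 hlt.le
    have h1 := hf' P htP
    rw [if_pos hlt] at h1
    have h3 : α P - t * f' = t * (α P / t - f') := by field_simp
    rw [h3, map_mul]
    exact mul_le_of_le_one_right' h1

/-- A relation with polynomial coefficients, not all divisible by `X`. -/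
theorem exists_rel {ι : Type*} [Fintype ι] {t : K} (ht0 : t ≠ 0) (f : ι → K) (m : ℕ) :
    ∀ p : ι → k[X], p ≠ 0 → ∑ i, (p i).natDegree ≤ m → ∑ i, aeval t (p i) * f i = 0 →
      ∃ p' : ι → k[X], ∑ i, aeval t (p' i) * f i = 0 ∧ ∃ i, (p' i).coeff 0 ≠ 0 := by
  classical
  induction m with
  | zero =>
    intro p hp hm hrel
    obtain ⟨i, hi⟩ := Function.ne_iff.mp hp
    refine ⟨p, hrel, i, ?_⟩
    have h1 : (p i).natDegree = 0 := by
      have := Finset.single_le_sum (f := fun i => (p i).natDegree) (fun _ _ => Nat.zero_le _)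
        (Finset.mem_univ i)
      omega
    intro h2
    apply hi
    rw [Polynomial.eq_C_of_natDegree_eq_zero h1, h2, map_zero]
    rfl
  | succ m ih =>
    intro p hp hm hrel
    by_cases hex : ∃ i, (p i).coeff 0 ≠ 0
    · exact ⟨p, hrel, hex⟩
    · push Not at hex
      have hpq : ∀ i, p i = (p i).divX * X := by
        intro i
        have h1 := Polynomial.divX_mul_X_add (p i)
        rw [hex i, map_zero, add_zero] at h1
        exact h1.symm
      have hq : (fun i => (p i).divX) ≠ 0 := by
        intro h0
        apply hp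
        funext i
        rw [hpq i, congrFun h0 i]
        simp
      refine ih (fun i => (p i).divX) hq ?_ ?_
      · obtain ⟨i, hi⟩ := Function.ne_iff.mp hp
        have h1 : (p i).natDegree ≠ 0 := by
          intro h1
          apply hi
          rw [Polynomial.eq_C_of_natDegree_eq_zero h1, hex i, map_zero]
          rfl
        have h2 : ∑ i, ((p i).divX).natDegree < ∑ i, (p i).natDegree := by
          refine Finset.sum_lt_sum (fun j _ => ?_) ⟨i, Finset.mem_univ i, ?_⟩
          · rw [Polynomial.natDegree_divX_eq_natDegree_tsub_one]; omega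
          · rw [Polynomial.natDegree_divX_eq_natDegree_tsub_one]; omega
        omega
      · have h1 : t * ∑ i, aeval t ((p i).divX) * f i = 0 := by
          rw [Finset.mul_sum, ← hrel]
          refine Finset.sum_congr rfl fun i _ => ?_
          conv_rhs => rw [hpq i]
          rw [map_mul, aeval_X]
          ring
        exact (mul_eq_zero.mp h1).resolve_left ht0

open scoped IntermediateField.algebraAdjoinAdjoin in
theorem exists_const_rel {t : K} (h : IsSep k K t) (n : ℕ)
    (hn : Module.finrank (IntermediateField.adjoin k {t}) K ≤ n) (f : Fin (n + 1) → K) :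
    ∃ (c : Fin (n + 1) → k) (q : Fin (n + 1) → k[X]), c ≠ 0 ∧
      ∑ i, algebraMap k K (c i) * f i = - (t * ∑ i, aeval t (q i) * f i) := by
  classical
  have := h.fin
  have h1 : ¬ LinearIndependent (IntermediateField.adjoin k {t}) f := by
    intro hli
    have := hli.fintype_card_le_finrank
    rw [Fintype.card_fin] at this
    omega
  rw [← LinearIndependent.iff_fractionRing (Algebra.adjoin k {t})
    (IntermediateField.adjoin k {t})] at h1
  rw [Fintype.not_linearIndependent_iff] at h1
  obtain ⟨g, hg, i0, hi0⟩ := h1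
  have hp : ∀ i, ∃ p : k[X], aeval t p = (g i : K) := by
    intro i
    have h1 : (g i : K) ∈ (aeval t : k[X] →ₐ[k] K).range := by
      rw [← Algebra.adjoin_singleton_eq_range_aeval]
      exact (g i).2
    exact h1
  choose p hp using hp
  have hp0 : p ≠ 0 := by
    intro h0
    apply hi0
    apply Subtype.ext
    rw [← hp i0, h0]
    simp
  have hrel : ∑ i, aeval t (p i) * f i = 0 := by
    rw [← hg]
    refine Finset.sum_congr rfl fun i _ => ?_
    rw [hp, Algebra.smul_def]
    rfl
  obtain ⟨p', hrel', i1, hi1⟩ := exists_rel h.ne_zero f _ p hp0 le_rfl hrel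
  refine ⟨fun i => (p' i).coeff 0, fun i => (p' i).divX, ?_, ?_⟩
  · intro h0
    exact hi1 (congrFun h0 i1)
  · rw [eq_neg_iff_add_eq_zero, ← hrel', Finset.mul_sum, ← Finset.sum_add_distrib]
    refine Finset.sum_congr rfl fun i _ => ?_
    conv_rhs => rw [← Polynomial.divX_mul_X_add (p' i)]
    rw [map_add, map_mul, aeval_X, aeval_C]
    ring

theorem deg_zer_le {t : K} (h : IsSep k K t) (n : ℕ)
    (hn : Module.finrank (IntermediateField.adjoin k {t}) K ≤ n) :
    (crv ⟨t, h⟩).deg (zer (crv ⟨t, h⟩) t) ≤ n := by
  classical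
  set C := crv ⟨t, h⟩ with hCdef
  have hC : C.Fin := crv_fin ⟨t, h⟩
  have ht0 := h.ne_zero
  have hle : - zer C t ≤ 0 := by
    rw [neg_le, neg_zero]; exact zer_nonneg t
  obtain ⟨h1, h2⟩ := C.rlen_AA hC.finRes hle
  rw [map_neg, map_zero, zero_sub, neg_neg] at h1
  rw [← h1]
  by_contra hcon
  push Not at hcon
  unfold rlen at h2 hcon
  have h3 : IsFiniteLength k (C.AA 0 ⧸ (C.AA (- zer C t)).submoduleOf (C.AA 0)) :=
    Module.length_ne_top_iff.1 h2
  have := (isFiniteLength_iff_isNoetherian_isArtinian.1 h3).1
  have hfd : Module.Finite k (C.AA 0 ⧸ (C.AA (- zer C t)).submoduleOf (C.AA 0)) := inferInstance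
  rw [Module.length_eq_finrank, ENat.toNat_natCast] at hcon
  have hcon' : n + 1 ≤ Module.finrank k (C.AA 0 ⧸ (C.AA (- zer C t)).submoduleOf (C.AA 0)) := by
    exact_mod_cast hcon
  let b := Module.finBasis k (C.AA 0 ⧸ (C.AA (- zer C t)).submoduleOf (C.AA 0))
  let e : Fin (n + 1) → _ := fun i => b (Fin.castLE hcon' i)
  have hli : LinearIndependent k e :=
    b.linearIndependent.comp _ (Fin.castLE_injective hcon')
  have hlift : ∀ i, ∃ α : C.AA 0, Submodule.Quotient.mk α = e i := fun i =>
    Submodule.Quotient.mk_surjective _ (e i)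
  choose α hα using hlift
  have hα1 : ∀ i (P : Place k K), P.val ((α i : Place k K → K) P) ≤ 1 := by
    intro i P
    have h4 := (C.mem_AA).1 (α i).2 P
    rw [Finsupp.coe_zero, Pi.zero_apply, exp_zero] at h4
    exact h4
  choose f hf1 hf2 using fun i => exists_approx h (α i : Place k K → K) (hα1 i)
  obtain ⟨c, q, hc0, hrel⟩ := exists_const_rel h n hn f
  apply hc0
  have hzero : ∑ i, c i • e i = 0 := by
    have h4 : ∑ i, c i • e i = Submodule.Quotient.mk (∑ i, c i • α i) := by
      rw [← Submodule.mkQ_apply, map_sum]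
      refine Finset.sum_congr rfl fun i _ => ?_
      rw [map_smul, Submodule.mkQ_apply, hα]
    rw [h4, Submodule.Quotient.mk_eq_zero, mem_subOf, C.mem_AA]
    intro P
    have h5 : ((∑ i, c i • α i : C.AA 0) : Place k K → K) P =
        ∑ i, algebraMap k K (c i) * (α i : Place k K → K) P := by
      rw [AddSubmonoidClass.coe_finsetSum, Finset.sum_apply]
      refine Finset.sum_congr rfl fun i _ => ?_
      rw [Submodule.coe_smul, Pi.smul_apply, Algebra.smul_def]
    rw [h5]
    have hle1 : P.val (∑ i, algebraMap k K (c i) * (α i : Place k K → K) P) ≤ 1 := by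
      refine P.val.map_sum_le fun i _ => ?_
      rw [map_mul]
      exact mul_le_one' (C.v_const P (c i)) (hα1 i P)
    change P.val _ ≤ _
    rw [Finsupp.neg_apply]
    by_cases hlt : P.val t < 1
    · have htP : t ∈ P.1 := (h.val_le_one_iff P t).1 hlt.le
      have h6 : P.val t = exp (-(zer C t P)) := by
        have h7 : 0 < C.div t P := div_pos_of_v_lt_one (C := C) ht0 hlt
        have h8 : C.v P t = exp (-(C.div t P)) := C.v_eq_exp ht0 P
        rw [zer_apply, max_eq_left h7.le]
        exact h8
      rw [← h6]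
      have h9 : ∑ i, algebraMap k K (c i) * (α i : Place k K → K) P =
          ∑ i, algebraMap k K (c i) * ((α i : Place k K → K) P - f i) -
            t * ∑ i, aeval t (q i) * f i := by
        rw [sub_eq_add_neg, ← hrel, ← Finset.sum_add_distrib]
        refine Finset.sum_congr rfl fun i _ => ?_
        ring
      rw [h9]
      refine (P.val.map_sub _ _).trans (max_le ?_ ?_)
      · refine P.val.map_sum_le fun i _ => ?_
        rw [map_mul]
        calc P.val (algebraMap k K (c i)) * P.val ((α i : Place k K → K) P - f i)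
            ≤ 1 * P.val t := mul_le_mul' (C.v_const P (c i)) (hf2 i P hlt)
          _ = _ := one_mul _
      · rw [map_mul]
        refine mul_le_of_le_one_right' ?_
        refine P.val.map_sum_le fun i _ => ?_
        rw [map_mul]
        refine mul_le_one' ?_ (hf1 i P htP)
        rw [h.val_le_one_iff]
        exact aeval_mem P htP _
    · have h6 : zer C t P = 0 := by
        rw [zer_apply, max_eq_right]
        by_contra h7
        push Not at h7
        apply hlt
        have h8 : C.v P t = exp (-(C.div t P)) := C.v_eq_exp ht0 P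
        change C.v P t < 1
        rw [h8, ← exp_zero, exp_lt_exp]
        omega
      rw [h6, neg_zero, exp_zero]
      exact hle1
  have hz := Fintype.linearIndependent_iff.mp hli c hzero
  funext i
  exact hz i

theorem crv_eq {t t' : K} (h : IsSep k K t) (h' : IsSep k K t') : crv ⟨t, h⟩ = crv ⟨t', h'⟩ := rfl

theorem deg_pole_le {t : K} (h : IsSep k K t) (n : ℕ)
    (hn : Module.finrank (IntermediateField.adjoin k {t}) K ≤ n) :
    (crv ⟨t, h⟩).deg (pole (crv ⟨t, h⟩) t) ≤ n := by
  have hC : (crv ⟨t, h⟩).Fin := crv_fin ⟨t, h⟩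
  rw [← deg_zer hC h.ne_zero]
  exact deg_zer_le h n hn

end K466.PCPole
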