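import Groth.Agent.Zeta.K466.PicDiv
import Groth.Agent.Zeta.K466.Basic
import Groth.Agent.MiscA.WCPlaceRes
import Groth.Agent.CurvesA.CurveDvr

/-!
# Isomorphism classes of invertible modules and divisor classes on a smooth proper curve

* `deg_eq`: the degree of an invertible module is the degree of its divisors;
* `exists_equiv`: invertible modules of degree `m` up to isomorphism are divisor classes of degree `m`.
-/

set_option autoImplicit false
universe u
open CategoryTheory AlgebraicGeometry WithZero TopologicalSpace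

namespace K466.PicEq

open Groth.Agent.MiscA Groth.Agent.MiscA.WCPlace Groth.Agent.MiscA.WCPlaceCrv
  Groth.Agent.MiscA.WCBridge Groth.Agent.MiscA.CurvePlaces Groth.Agent
open K466.PicVal K466.PicDiv

theorem finsum_comp_injective {A B : Type*} {F : B → ℤ} {i : A → B} (hi : Function.Injective i)
    (h : ∀ b, b ∉ Set.range i → F b = 0) : ∑ᶠ b, F b = ∑ᶠ a, F (i a) := by
  classical
  rw [← finsum_mem_range hi]
  refine finsum_congr fun b => ?_
  by_cases hb : b ∈ Set.range i
  · rw [finsum_eq_if, if_pos hb]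
  · rw [finsum_eq_if, if_neg hb, h b hb]

theorem isoRel_equivalence {X : Scheme.{u}} : Equivalence fun L L' : X.Modules => Nonempty (L ≅ L') :=
  ⟨fun L => ⟨Iso.refl L⟩, fun ⟨e⟩ => ⟨e.symm⟩, fun ⟨e⟩ ⟨e'⟩ => ⟨e ≪≫ e'⟩⟩

theorem cl_eq_iff {X : Scheme.{u}} (L M : X.Modules) :
    PicF.cl L = PicF.cl M ↔ Nonempty (L ≅ M) := by
  constructor
  · intro h
    have := Quot.eqvGen_exact h
    rwa [isoRel_equivalence.eqvGen_iff] at this
  · intro h; exact Quot.sound h

section deg

variable (k : Type u) [Field k] (C : Scheme.{u}) [IsIntegral C] [C.Over (Spec (CommRingCat.of k))]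
  [Algebra k C.functionField]
  (hk : genericPt C ≫ (C ↘ Spec (CommRingCat.of k)) =
    Spec.map (CommRingCat.ofHom (algebraMap k C.functionField)))
  [IsProper (C ↘ Spec (CommRingCat.of k))] [Smooth (C ↘ Spec (CommRingCat.of k))]
  (hdim : topologicalKrullDim C = 1) (h : ∃ t : C.functionField, IsSep k C.functionField t)

theorem residueDegree_eq (x : {x : C // IsClosed ({x} : Set C)}) :
    (C ↘ Spec (CommRingCat.of k)).residueDegree x.1 = (crv h).dg0 (placeOf _ hk hdim x) := by
  rw [WCPlaceRes.dg0_eq_finrank, ← finrank_residueField]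
  exact (Basic.degree_eq_residueDegree (C ↘ Spec (CommRingCat.of k)) x.1).symm

theorem deg_eq {L : C.Modules} (hL : PicF.IsInvertible L) {D : Place k C.functionField →₀ ℤ}
    (hD : IsDiv (C ↘ Spec (CommRingCat.of k)) hk hdim L D) :
    Curv2.deg k C L 1 = (crv h).deg D := by
  have hln : IsLocallyNoetherian C := LocallyOfFiniteType.isLocallyNoetherian (C ↘ Spec (CommRingCat.of k))
  obtain ⟨δ, hδ⟩ := CycB.SetupLft.exists_deltaCompat (C ↘ Spec (CommRingCat.of k)) (fun _ => 0)
  obtain ⟨hdf, hgen, hlt, hcl, hncl, hres⟩ := CycB.DegCurve.points k C hdim δ hδ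
  obtain ⟨a, ha, ha'⟩ := hD
  obtain ⟨σ, hσ0, -, hσ⟩ := K172.CocOrd.exists_sec hL ha
  rw [CycB.DegCurve.deg_eq k C hdim δ hδ L hL (σ 1) (hσ0 1 one_ne_zero)]
  let i : Place k C.functionField → C := fun P =>
    ((placeEquiv (C ↘ Spec (CommRingCat.of k)) hk hdim).symm P).1
  have hi : Function.Injective i :=
    Subtype.val_injective.comp (placeEquiv (C ↘ Spec (CommRingCat.of k)) hk hdim).symm.injective
  have hir : ∀ x, x ∉ Set.range i → x = genericPoint C := by
    intro x hx
    by_contra hne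
    apply hx
    refine ⟨placeOf _ hk hdim ⟨x, hcl x hne⟩, ?_⟩
    exact congrArg Subtype.val ((placeEquiv _ hk hdim).symm_apply_apply ⟨x, hcl x hne⟩)
  rw [finsum_comp_injective hi]
  swap
  · intro x hx
    have hx' := hir x hx
    subst hx'
    unfold Cyc.secDivFun
    rw [dif_neg, mul_zero]
    rintro ⟨-, h2⟩
    omega
  have key : ∀ P, ((C ↘ Spec (CommRingCat.of k)).residueDegree (i P) : ℤ) *
      Cyc.secDivFun δ L (genericPoint C) (σ 1) (i P) = D P * ((crv h).dg0 P : ℤ) := by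
    intro P
    obtain ⟨x, rfl⟩ := (placeEquiv (C ↘ Spec (CommRingCat.of k)) hk hdim).surjective P
    have hix : i (placeEquiv (C ↘ Spec (CommRingCat.of k)) hk hdim x) = x.1 :=
      congrArg Subtype.val ((placeEquiv _ hk hdim).symm_apply_apply x)
    rw [hix, residueDegree_eq k C hk hdim h x]
    have hxne : x.1 ≠ genericPoint C := by
      intro h0
      exact hncl (h0 ▸ x.2)
    have hdvr : IsDiscreteValuationRing (C.presheaf.stalk x.1) :=
      CurvesA.CurveDvr.isDiscreteValuationRing_stalk (C ↘ Spec (CommRingCat.of k)) hdim.le x.1 hxne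
    unfold Cyc.secDivFun
    rw [dif_pos ⟨genericPoint_specializes x.1, by rw [hlt x.1 hxne, hgen]; rfl⟩]
    rw [hσ 1 one_ne_zero x.1 (Ega4dB.CDivNormal.coheight_eq_one x.1),
      ord_eq_div _ hk hdim h x (div_ne_zero one_ne_zero (ha.1 x.1))]
    have h1 := v_eq h (placeOf _ hk hdim x) (div_ne_zero one_ne_zero (ha.1 x.1))
    rw [map_div₀, map_one, ha' x, one_div, ← exp_neg, exp_inj] at h1
    rw [mul_comm]
    change _ = D (placeOf _ hk hdim x) * ((crv h).dg0 (placeOf _ hk hdim x) : ℤ)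
    congr 1
    omega
  rw [finsum_congr key]
  have hsub : (Function.support fun P => D P * ((crv h).dg0 P : ℤ)) ⊆ ↑D.support := by
    intro P hP
    rw [Finset.mem_coe, Finsupp.mem_support_iff]
    intro h0
    apply hP
    change D P * _ = 0
    rw [h0, zero_mul]
  rw [finsum_eq_sum_of_support_subset _ hsub]
  rfl

include hk hdim in
theorem exists_equiv (hPr : ∀ D ∈ ZetaCrv.prin (crv h), ZetaAbs.degZ (crv h).dg0 D = 0) (m : ℤ) :
    Nonempty (ZetaAbs.ClN (crv h).dg0 (ZetaCrv.prin (crv h)) hPr m ≃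
      {c : PicF.Cl C // ∃ L : C.Modules, PicF.cl L = c ∧ PicF.IsInvertible L ∧
        Curv2.deg k C L 1 = m}) := by
  choose M hM hdiv using fun D => exists_of_isDiv (C ↘ Spec (CommRingCat.of k)) hk hdim h D
  have hdegM : ∀ D, Curv2.deg k C (M D) 1 = (crv h).deg D :=
    fun D => deg_eq k C hk hdim h (hM D) (hdiv D)
  have hout : ∀ c : ZetaAbs.ClN (crv h).dg0 (ZetaCrv.prin (crv h)) hPr m,
      (crv h).deg (Quotient.out c.1) = m := by
    intro c
    rw [← ZetaCrv.degZ_eq, ← ZetaAbs.degHom_apply, ← ZetaAbs.degCl_mk _ _ hPr,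
      QuotientAddGroup.out_eq', c.2]
  refine ⟨Equiv.ofBijective (fun c => ⟨PicF.cl (M (Quotient.out c.1)), M _, rfl, hM _, by
    rw [hdegM, hout]⟩) ⟨?_, ?_⟩⟩
  · intro c c' hcc
    have h1 : PicF.cl (M (Quotient.out c.1)) = PicF.cl (M (Quotient.out c'.1)) :=
      congrArg Subtype.val hcc
    obtain ⟨φ⟩ := (cl_eq_iff _ _).1 h1
    have h2 := sub_mem_of_iso _ hk hdim h (hdiv _) (hdiv _) φ
    apply Subtype.ext
    rw [← QuotientAddGroup.out_eq' c.1, ← QuotientAddGroup.out_eq' c'.1,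
      QuotientAddGroup.eq_iff_sub_mem]
    exact h2
  · rintro ⟨_, L, rfl, hL, hm⟩
    obtain ⟨D, hD⟩ := exists_isDiv _ hk hdim h hL
    have hdeg : ZetaAbs.degHom (crv h).dg0 D = m := by
      rw [ZetaAbs.degHom_apply, ZetaCrv.degZ_eq, ← hm, deg_eq k C hk hdim h hL hD]
    refine ⟨⟨(D : (Place k C.functionField →₀ ℤ) ⧸ ZetaCrv.prin (crv h)), by
      rw [ZetaAbs.degCl_mk]; exact hdeg⟩, ?_⟩
    apply Subtype.ext
    refine (cl_eq_iff _ _).2 (iso_of_sub_mem _ hk hdim h (hdiv _) hD ?_)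
    rw [← QuotientAddGroup.eq_iff_sub_mem]
    exact QuotientAddGroup.out_eq' _

end deg

end K466.PicEq
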