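import Groth.Agent.Zeta.K466.Basic
import Groth.Agent.MiscA.ZetaAbsCount
import Mathlib.AlgebraicGeometry.Morphisms.Immersion
import Mathlib.AlgebraicGeometry.Limits

/-!
# Zeta functions of schemes over finite fields: counting lemmas

* `pointCount_baseChange`, `nPts_baseChange`;
* `degree_comp`, `ncard_degree_partition`: partitions into preimmersed pieces;
* `zetaFun_eq_map_A`: the zeta function counts effective zero cycles.
-/

set_option autoImplicit false
universe u v
open AlgebraicGeometry CategoryTheory Limits

namespace K466.Count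

open Groth.Agent.MiscA K466.Basic

section basechange

variable {k : Type u} [Field k] {X X' : Scheme.{u}} {f : X ⟶ Spec (CommRingCat.of k)}

/-- Points of a base change. -/
theorem pointCount_baseChange {k' : Type u} [Field k'] [Algebra k k'] {p : X' ⟶ X}
    {f' : X' ⟶ Spec (CommRingCat.of k')}
    (h : IsPullback p f' f (Spec.map (CommRingCat.ofHom (algebraMap k k'))))
    (K : Type u) [Field K] [Algebra k K] [Algebra k' K] [IsScalarTower k k' K] :
    SgaExt.pointCount f' K = SgaExt.pointCount f K := by
  unfold SgaExt.pointCount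
  have e : Spec.map (CommRingCat.ofHom (algebraMap k' K)) ≫
      Spec.map (CommRingCat.ofHom (algebraMap k k')) =
      Spec.map (CommRingCat.ofHom (algebraMap k K)) := by
    rw [← Spec.map_comp, ← CommRingCat.ofHom_comp, ← IsScalarTower.algebraMap_eq]
  refine Nat.card_congr
    { toFun := fun g => ⟨g.1 ≫ p, ?_⟩
      invFun := fun g => ⟨h.lift g.1 (Spec.map (CommRingCat.ofHom (algebraMap k' K))) ?_, ?_⟩
      left_inv := fun g => ?_
      right_inv := fun g => ?_ }
  · rw [Category.assoc, h.w, reassoc_of% g.2, e]
  · rw [g.2, e]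
  · exact h.lift_snd _ _ _
  · apply Subtype.ext
    apply h.hom_ext
    · exact h.lift_fst _ _ _
    · exact (h.lift_snd _ _ _).trans g.2.symm
  · apply Subtype.ext
    exact h.lift_fst _ _ _

theorem nPts_baseChange [Finite k] [LocallyOfFiniteType f] [QuasiCompact f]
    {k' : Type u} [Field k'] [Algebra k k'] [Finite k'] {p : X' ⟶ X}
    {f' : X' ⟶ Spec (CommRingCat.of k')}
    (h : IsPullback p f' f (Spec.map (CommRingCat.ofHom (algebraMap k k')))) (m : ℕ) :
    Zeta.nPts f' m = Zeta.nPts f (Module.finrank k k' * m) := by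
  rcases Nat.eq_zero_or_pos m with rfl | hm
  · rw [mul_zero, nPts_zero, nPts_zero]
  · obtain ⟨K, _, _, _, hK⟩ := PointCount.exists_extension k' m hm.ne'
    let _ : Algebra k K := ((algebraMap k' K).comp (algebraMap k k')).toAlgebra
    have : IsScalarTower k k' K := IsScalarTower.of_algebraMap_eq' rfl
    have hft : LocallyOfFiniteType f' := MorphismProperty.of_isPullback h inferInstance
    have hqc : QuasiCompact f' := MorphismProperty.of_isPullback h inferInstance
    have h1 := pointCount_baseChange h K
    rw [pointCount_eq_nPts, pointCount_eq_nPts, hK] at h1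
    rw [h1, ← Module.finrank_mul_finrank k k' K, hK]

end basechange

section pieces

variable {k : Type u} [Field k] {X Y : Scheme.{u}} (f : X ⟶ Spec (CommRingCat.of k))

theorem surjective_residueFieldMap (g : Y ⟶ X) [SurjectiveOnStalks g] (y : Y) :
    Function.Surjective (g.residueFieldMap y).hom := by
  intro b
  obtain ⟨b', rfl⟩ := Y.residue_surjective y b
  obtain ⟨a, rfl⟩ := g.stalkMap_surjective y b'
  refine ⟨(X.residue (g y)).hom a, ?_⟩
  have := Scheme.residue_residueFieldMap g y
  exact congr($(this).hom a)

theorem degree_comp (g : Y ⟶ X) (y : Y) (hg : Function.Surjective (g.residueFieldMap y).hom) :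
    PointCount.degree (g ≫ f) y = PointCount.degree f (g y) := by
  unfold PointCount.degree
  let e : X.residueField (g y) ≃+* Y.residueField y :=
    RingEquiv.ofBijective (g.residueFieldMap y).hom ⟨RingHom.injective _, hg⟩
  let _ := (PointCount.resHom f (g y)).toAlgebra
  let _ := (PointCount.resHom (g ≫ f) y).toAlgebra
  symm
  refine Algebra.finrank_eq_of_equiv_equiv (RingEquiv.refl k) e ?_
  have h : CommRingCat.ofHom (PointCount.resHom f (g y)) ≫ g.residueFieldMap y =
      CommRingCat.ofHom (PointCount.resHom (g ≫ f) y) := by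
    apply Spec.map_injective
    rw [Spec.map_comp, PointCount.spec_map_resHom, PointCount.spec_map_resHom,
      Scheme.Hom.SpecMap_residueFieldMap_fromSpecResidueField_assoc]
  ext a
  exact (congrArg (fun q => q.hom a) h).symm

/-- Partition of the points of given degree by finitely many injective preimmersed pieces. -/
theorem nPts_eq_sum_of_pieces [Finite k] [LocallyOfFiniteType f] [QuasiCompact f] {ι : Type v} [Fintype ι]
    (Z : ι → Scheme.{u}) (g : ∀ i, Z i ⟶ X) [∀ i, IsPreimmersion (g i)]
    [∀ i, LocallyOfFiniteType (g i ≫ f)]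
    (hcov : ∀ x : X, IsClosed ({x} : Set X) → ∃ i, x ∈ Set.range (g i))
    (hdisj : ∀ i j, i ≠ j → ∀ x : X, IsClosed ({x} : Set X) → x ∈ Set.range (g i) →
      x ∉ Set.range (g j)) (m : ℕ) :
    Zeta.nPts f m = ∑ i, Zeta.nPts (g i ≫ f) m := by
  classical
  unfold Zeta.nPts
  rw [Finset.sum_comm]
  refine Finset.sum_congr rfl fun d hd => ?_
  have hd0 : 0 < d := Nat.pos_of_mem_divisors hd
  rw [← Finset.mul_sum, degCount_eq_ncard f d hd0]
  congr 1
  rw [Finset.sum_congr rfl fun i _ => degCount_eq_ncard (g i ≫ f) d hd0]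
  have hfin := PointCount.finite_degree_eq f d hd0
  have hinj : ∀ i, Function.Injective (g i) := fun i => (g i).isEmbedding.injective
  have himg : ∀ i, g i '' {z | PointCount.degree (g i ≫ f) z = d} =
      {x | PointCount.degree f x = d} ∩ Set.range (g i) := by
    intro i
    ext x
    constructor
    · rintro ⟨z, hz, rfl⟩
      refine ⟨?_, ⟨z, rfl⟩⟩
      have hz' : PointCount.degree (g i ≫ f) z = d := hz
      rwa [degree_comp f (g i) z (surjective_residueFieldMap _ _)] at hz'
    · rintro ⟨hx, ⟨z, rfl⟩⟩
      refine ⟨z, ?_, rfl⟩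
      rw [Set.mem_ofPred_eq, degree_comp f (g i) z (surjective_residueFieldMap _ _)]
      exact hx
  have hcard : ∀ i, Set.ncard {z | PointCount.degree (g i ≫ f) z = d} =
      Set.ncard ({x | PointCount.degree f x = d} ∩ Set.range (g i)) := by
    intro i
    rw [← himg i, Set.ncard_image_of_injective _ (hinj i)]
  rw [Finset.sum_congr rfl fun i _ => hcard i]
  have hU : {x | PointCount.degree f x = d} =
      ⋃ i ∈ (Finset.univ : Finset ι), ({x | PointCount.degree f x = d} ∩ Set.range (g i)) := by
    ext x
    simp only [Set.mem_iUnion, Set.mem_inter_iff, Finset.mem_univ, exists_prop, true_and]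
    constructor
    · intro hx
      have hx' : PointCount.degree f x = d := hx
      obtain ⟨i, hi⟩ := hcov x (WCCount.isClosed_of_degree_pos f x (by omega))
      exact ⟨i, hx, hi⟩
    · rintro ⟨i, hx, -⟩
      exact hx
  conv_lhs => rw [hU]
  have key : ∀ s : Finset ι, Set.ncard (⋃ i ∈ s, ({x | PointCount.degree f x = d} ∩ Set.range (g i))) =
      ∑ i ∈ s, Set.ncard ({x | PointCount.degree f x = d} ∩ Set.range (g i)) := by
    intro s
    induction s using Finset.induction_on with
    | empty => simp
    | insert a s ha ih =>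
      have h1 : Disjoint ({x | PointCount.degree f x = d} ∩ Set.range (g a))
          (⋃ x ∈ s, {x | PointCount.degree f x = d} ∩ Set.range (g x)) := by
        rw [Set.disjoint_left]
        rintro x ⟨hx, hxa⟩ hx2
        simp only [Set.mem_iUnion] at hx2
        obtain ⟨j, hj, -, hxj⟩ := hx2
        have hx' : PointCount.degree f x = d := hx
        exact hdisj a j (fun h => ha (h ▸ hj)) x
          (WCCount.isClosed_of_degree_pos f x (by omega)) hxa hxj
      have h2 : ({x | PointCount.degree f x = d} ∩ Set.range (g a)).Finite :=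
        hfin.subset Set.inter_subset_left
      have h3 : (⋃ x ∈ s, {x | PointCount.degree f x = d} ∩ Set.range (g x)).Finite := by
        refine hfin.subset ?_
        intro x hx
        simp only [Set.mem_iUnion] at hx
        obtain ⟨j, -, hx, -⟩ := hx
        exact hx
      rw [Finset.set_biUnion_insert, Finset.sum_insert ha, ← ih, Set.ncard_union_eq h1 h2 h3]
  exact key Finset.univ

end pieces

section zeta

open PowerSeries ZetaAbsCx

variable {k : Type u} [Field k] {X : Scheme.{u}} (f : X ⟶ Spec (CommRingCat.of k))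

/-- The degree function on closed points. -/
noncomputable def cdeg (x : {x : X // IsClosed ({x} : Set X)}) : ℕ := EGA4loc.residueDegree f x.1

theorem cdeg_pos [LocallyOfFiniteType f] (x : {x : X // IsClosed ({x} : Set X)}) : 0 < cdeg f x :=
  residueDegree_pos f x.1 x.2

theorem finite_cdeg [Finite k] [LocallyOfFiniteType f] [QuasiCompact f] (d : ℕ) :
    Finite {P : {x : X // IsClosed ({x} : Set X)} // cdeg f P = d} := by
  have := finite_degCount f d
  refine Finite.of_injective (β := { x : X // IsClosed ({x} : Set X) ∧ EGA4loc.residueDegree f x = d })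
    (fun P => ⟨P.1.1, P.1.2, P.2⟩) ?_
  rintro ⟨⟨x, hx⟩, h⟩ ⟨⟨y, hy⟩, h'⟩ e
  simpa using e

theorem degCount_eq_card (d : ℕ) : Zeta.degCount f d =
    Nat.card {P : {x : X // IsClosed ({x} : Set X)} // cdeg f P = d} := by
  unfold Zeta.degCount
  exact Nat.card_congr
    { toFun := fun x => ⟨⟨x.1, x.2.1⟩, x.2.2⟩
      invFun := fun P => ⟨P.1.1, P.1.2, P.2⟩
      left_inv := fun x => rfl
      right_inv := fun P => rfl }

theorem nPts_eq_N (m : ℕ) : Zeta.nPts f m = ZetaAbsCount.N (cdeg f) m := by
  unfold Zeta.nPts ZetaAbsCount.N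
  exact Finset.sum_congr rfl fun d _ => by rw [degCount_eq_card]

/-- The zeta function counts effective zero cycles. -/
theorem zetaFun_eq_map_A [Finite k] [LocallyOfFiniteType f] [QuasiCompact f] :
    Zeta.zetaFun f = PowerSeries.map (Int.castRingHom ℚ)
      (PowerSeries.mk fun n => (ZetaAbsCount.A (cdeg f) n : ℤ)) := by
  rw [zetaFun_eq_iff]
  constructor
  · have h1 := (ZetaAbsCount.logD_zeta (cdeg f) (cdeg_pos f) (finite_cdeg f)).map (Int.castRingHom ℚ)
    convert h1 using 1
    ext n
    rw [coeff_mk, coeff_map, coeff_mk]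
    split_ifs with h
    · subst h; simp [nPts_zero]
    · rw [nPts_eq_N]; simp
  · rw [← coeff_zero_eq_constantCoeff_apply, coeff_map, coeff_mk,
      ZetaAbsCount.A_zero (cdeg f) (cdeg_pos f)]
    simp

end zeta

end K466.Count
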