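import Groth.Agent.MiscA.ZetaCrv

/-!
# The zeta function of an abstract curve: the numerator and the class number

`exists_poly`: `(1 - T)(1 - qT) ∑ A_n T^n` is a polynomial of degree at most `2g` with constant term
one whose value at one is the number of divisor classes of degree zero.
-/

set_option autoImplicit false

namespace K466.ClassNo

open Groth.Agent.MiscA Groth.Agent.MiscA.ZetaAbs Groth.Agent.MiscA.ZetaAbsCount

variable {X : Type*} (deg : X → ℕ)
variable (hdeg : ∀ P, 0 < deg P) (hfin : ∀ d, Finite {P : X // deg P = d})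
  (q g : ℕ) (hq : 2 ≤ q)
  (Pr : AddSubgroup (X →₀ ℤ)) (hPr : ∀ D ∈ Pr, degZ deg D = 0)
  (l : (X →₀ ℤ) → ℕ)
  (hcount : ∀ D, Nat.card {E : X →₀ ℤ // 0 ≤ E ∧ E - D ∈ Pr} * (q - 1) + 1 = q ^ l D)
  (hRR : ∀ D, degZ deg D + 1 - g ≤ l D)
  (hRR' : ∀ D, 2 * (g : ℤ) - 2 < degZ deg D → (l D : ℤ) = degZ deg D + 1 - g)

include hdeg hfin hq hPr hcount hRR hRR' in
theorem A_eq (D₁ : X →₀ ℤ) (hD₁ : degHom deg D₁ = 1) (n : ℕ) (hn : 2 * (g : ℤ) - 2 < n) :
    A deg n * (q - 1) + Nat.card (ClN deg Pr hPr 0) =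
      Nat.card (ClN deg Pr hPr 0) * q ^ (n + 1 - g) := by
  classical
  have hfinN : ∀ n : ℤ, Finite (ClN deg Pr hPr n) :=
    fun n => finite_ClN deg hdeg hfin q g hq Pr hPr l hcount hRR D₁ hD₁ n
  have hh : ∀ n : ℤ, Nat.card (ClN deg Pr hPr n) = Nat.card (ClN deg Pr hPr 0) :=
    fun n => Nat.card_congr (translateEquiv deg Pr hPr D₁ hD₁ n 0)
  have hrep : ∀ (n : ℤ) (c : ClN deg Pr hPr n), degZ deg (Quotient.out c.1) = n := by
    intro n c
    rw [← degHom_apply, ← degCl_mk deg Pr hPr, QuotientAddGroup.out_eq', c.2]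
  have : Fintype (ClN deg Pr hPr (n : ℤ)) := Fintype.ofFinite _
  have h1 := A_mul_add deg hdeg hfin q Pr hPr l hcount n (fun c => Quotient.out c.1)
    (fun c => (QuotientAddGroup.out_eq' c.1).symm)
  rw [hh] at h1
  rw [h1, ← hh n, Nat.card_eq_fintype_card, Fintype.card, ← smul_eq_mul, ← Finset.sum_const]
  refine Finset.sum_congr rfl fun c _ => ?_
  congr 1
  have h2 := hRR' (Quotient.out c.1) (by rw [hrep]; exact hn)
  rw [hrep] at h2
  omega

open PowerSeries in
include hdeg hfin hq hcount hRR hRR' in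
theorem exists_poly (D₁ : X →₀ ℤ) (hD₁ : degHom deg D₁ = 1) :
    ∃ P : Polynomial ℤ, P.natDegree ≤ 2 * g ∧ P.coeff 0 = 1 ∧
      P.eval 1 = (Nat.card (ClN deg Pr hPr 0) : ℤ) ∧
      (1 - PowerSeries.X) * (1 - C (q : ℤ) * PowerSeries.X) * (mk fun n => (A deg n : ℤ)) =
        (P : ℤ⟦X⟧) := by
  set h := Nat.card (ClN deg Pr hPr 0) with hh
  have hn := A_eq deg hdeg hfin q g hq Pr hPr l hcount hRR hRR' D₁ hD₁
  rw [← hh] at hn
  let Z : ℤ⟦X⟧ := mk fun n => (A deg n : ℤ)
  let PS : ℤ⟦X⟧ := (1 - PowerSeries.X) * (1 - C (q : ℤ) * PowerSeries.X) * Z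
  have hPS : PS = Z - C ((q : ℤ) + 1) * (PowerSeries.X * Z) +
      C (q : ℤ) * (PowerSeries.X * (PowerSeries.X * Z)) := by
    simp only [PS, map_add, map_one]
    ring
  have c0 : coeff 0 PS = 1 := by
    rw [hPS]
    simp [Z, A_zero deg hdeg]
  have c1 : coeff 1 PS = A deg 1 - (q + 1) := by
    rw [hPS, map_add, map_sub, coeff_C_mul, coeff_C_mul,
      show (1 : ℕ) = 0 + 1 from rfl, coeff_succ_X_mul, coeff_succ_X_mul]
    simp [Z, A_zero deg hdeg]
  have c2 : ∀ k, coeff (k + 2) PS = A deg (k + 2) - (q + 1) * A deg (k + 1) + q * A deg k := by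
    intro k
    rw [hPS, map_add, map_sub, coeff_C_mul, coeff_C_mul, coeff_succ_X_mul, coeff_succ_X_mul,
      coeff_succ_X_mul]
    simp [Z]
  have hq1 : (0 : ℤ) < (q : ℤ) - 1 := by omega
  have hnZ : ∀ n : ℕ, 2 * (g : ℤ) - 2 < n →
      (A deg n : ℤ) * ((q : ℤ) - 1) = h * (q : ℤ) ^ (n + 1 - g) - h := by
    intro n hn'
    have h1 := hn n hn'
    have h2 : ((A deg n * (q - 1) + h : ℕ) : ℤ) = ((h * q ^ (n + 1 - g) : ℕ) : ℤ) := by rw [h1]
    push_cast [Nat.cast_sub (show 1 ≤ q by omega)] at h2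
    linarith
  have hvan : ∀ n, 2 * g < n → coeff n PS = 0 := by
    intro n hn'
    by_cases hn1 : n = 1
    · -- `g = 0`
      have hg : g = 0 := by omega
      subst hg
      rw [hn1, c1]
      have e0 := hnZ 0 (by norm_num)
      have e1 := hnZ 1 (by norm_num)
      rw [A_zero deg hdeg] at e0
      simp only [Nat.cast_one, one_mul, Nat.zero_add, Nat.sub_zero, pow_one] at e0 e1
      have hh1 : (h : ℤ) = 1 := by
        have : ((h : ℤ) - 1) * ((q : ℤ) - 1) = 0 := by linarith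
        rcases mul_eq_zero.mp this with h3 | h3
        · linarith
        · omega
      rw [hh1] at e1
      have : ((A deg 1 : ℤ) - ((q : ℤ) + 1)) * ((q : ℤ) - 1) = 0 := by
        rw [sub_mul, e1]; ring
      rcases mul_eq_zero.mp this with h3 | h3
      · exact h3
      · omega
    · obtain ⟨k, rfl⟩ : ∃ k, n = k + 2 := ⟨n - 2, by omega⟩
      rw [c2]
      have e0 := hnZ k (by omega)
      have e1 := hnZ (k + 1) (by push_cast; omega)
      have e2 := hnZ (k + 2) (by push_cast; omega)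
      have p1 : k + 1 + 1 - g = (k + 1 - g) + 1 := by omega
      have p2 : k + 2 + 1 - g = (k + 1 - g) + 2 := by omega
      rw [p1] at e1
      rw [p2] at e2
      have : ((A deg (k + 2) : ℤ) - (q + 1) * A deg (k + 1) + q * A deg k) * ((q : ℤ) - 1) = 0 := by
        linear_combination e2 - ((q : ℤ) + 1) * e1 + (q : ℤ) * e0
      rcases mul_eq_zero.mp this with h3 | h3
      · exact h3
      · omega
  -- the polynomial
  let P : Polynomial ℤ := trunc (2 * g + 1) PS
  have hPcoe : (P : ℤ⟦X⟧) = PS := by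
    ext n
    rw [Polynomial.coeff_coe, coeff_trunc]
    split_ifs with h1
    · rfl
    · exact (hvan n (by omega)).symm
  have hPc : ∀ n, P.coeff n = coeff n PS := by
    intro n
    rw [← Polynomial.coeff_coe, hPcoe]
  have hdegP : P.natDegree ≤ 2 * g := by
    rw [Polynomial.natDegree_le_iff_coeff_eq_zero]
    intro n hn'
    rw [hPc, hvan n hn']
  refine ⟨P, hdegP, by rw [hPc, c0], ?_, hPcoe.symm⟩
  have hsum : ∀ m : ℕ, ∑ i ∈ Finset.range (m + 2), coeff i PS = A deg (m + 1) - q * A deg m := by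
    intro m
    induction m with
    | zero =>
      rw [zero_add, Finset.sum_range_succ, Finset.sum_range_one, c0, c1, A_zero deg hdeg]
      push_cast
      ring
    | succ m ih =>
      rw [Finset.sum_range_succ, ih, c2]
      ring
  rw [Polynomial.eval_eq_sum_range' (n := 2 * g + 2) (by omega)]
  simp only [one_pow, mul_one, hPc]
  rw [hsum]
  have e0 := hnZ (2 * g) (by push_cast; omega)
  have e1 := hnZ (2 * g + 1) (by push_cast; omega)
  have p0 : 2 * g + 1 - g = g + 1 := by omega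
  have p1 : 2 * g + 1 + 1 - g = g + 2 := by omega
  rw [p0] at e0
  rw [p1] at e1
  have : ((A deg (2 * g + 1) : ℤ) - q * A deg (2 * g) - h) * ((q : ℤ) - 1) = 0 := by
    linear_combination e1 - (q : ℤ) * e0
  rcases mul_eq_zero.mp this with h3 | h3
  · linarith
  · omega

end K466.ClassNo
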