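import Groth.Agent.S0619
import Groth.Agent.MiscA.CurveH1Place
import Groth.Agent.VarietyA.ResMap
import Groth.Agent.Zeta.K466.Basic

/-!
# Points of smooth proper curves over finite fields

* `resMap_eq`: the two structure maps `k → κ(x)` agree;
* `natCard_H1`: `#H^1(C, O_C) = q^g` with `g = Curv2.genus k C`;
* `exists_point_dvd`: for `n > 4g` there is a closed point of degree dividing `n`.
-/

set_option autoImplicit false
universe u
open AlgebraicGeometry CategoryTheory

namespace K466.CurvePts

open Groth.Agent.MiscA Groth.Agent.MiscA.WCPlace Groth.Agent.MiscA.WCPlaceCrv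

theorem resMap_eq (k : Type u) [Field k] (X : Scheme.{u}) [X.Over (Spec (CommRingCat.of k))] (x : X) :
    Curv2.resMap k X x = PointCount.resHom (X ↘ Spec (CommRingCat.of k)) x := by
  have h1 := Groth.Agent.VarietyA.ResMap.specMap_resMap k X x
  rw [← PointCount.spec_map_resHom] at h1
  have h2 := Spec.map_injective h1
  exact congrArg CommRingCat.Hom.hom h2

theorem finrank_residueField (k : Type u) [Field k] (X : Scheme.{u}) [X.Over (Spec (CommRingCat.of k))] (x : X) :
    @Module.finrank k (X.residueField x) _ _ (Curv2.resAlgebra k X x).toModule =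
      PointCount.degree (X ↘ Spec (CommRingCat.of k)) x := by
  unfold PointCount.degree Curv2.resAlgebra
  rw [resMap_eq]

theorem natCard_H1 (k : Type u) [Field k] [Finite k] (C : Scheme.{u}) [C.Over (Spec (CommRingCat.of k))]
    (hC : Curve.IsSmoothProperCurve k C (C ↘ Spec (CommRingCat.of k))) :
    Nat.card (Coh.HH C (Coh.structureModule C) 1) = Nat.card k ^ Curv2.genus k C := by
  obtain ⟨hpr, hsm, hint, hdim⟩ := id hC
  let := (Spec.preimage (CurvePlaces.genericPt C ≫ (C ↘ Spec (CommRingCat.of k)))).hom.toAlgebra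
  have hk : CurvePlaces.genericPt C ≫ (C ↘ Spec (CommRingCat.of k)) =
      Spec.map (CommRingCat.ofHom (algebraMap k C.functionField)) :=
    (Spec.map_preimage _).symm
  have hsep : ∃ t : C.functionField, IsSep k C.functionField t := WCSep.exists_isSep _ hdim hk
  obtain ⟨h1, h2⟩ := CurveH1.i_zero_eq_finrank hk hdim hsep
  exact Module.natCard_eq_pow_finrank

theorem exists_point_dvd (k : Type u) [Field k] [Finite k] (C : Scheme.{u}) [C.Over (Spec (CommRingCat.of k))]
    (hC : Curve.IsSmoothProperCurve k C (C ↘ Spec (CommRingCat.of k)))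
    [GeometricallyIrreducible (C ↘ Spec (CommRingCat.of k))] (n : ℕ) (hn : 4 * Curv2.genus k C < n) :
    ∃ x : C, IsClosed ({x} : Set C) ∧ PointCount.degree (C ↘ Spec (CommRingCat.of k)) x ∣ n := by
  obtain ⟨hpr, hsm, hint, hdim⟩ := id hC
  obtain ⟨k', _, _, _, hk'⟩ := PointCount.exists_extension k n (by omega)
  have h1 := Groth.Agent.S0619.result (C ↘ Spec (CommRingCat.of k)) hC _ (natCard_H1 k C hC) k'
  have hpos : SgaExt.pointCount (C ↘ Spec (CommRingCat.of k)) k' ≠ 0 := by
    intro h0
    rw [h0, hk'] at h1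
    set g := Curv2.genus k C
    set s : ℝ := (Nat.card k : ℝ) ^ ((n : ℝ) / 2) with hs
    have hq : (2 : ℝ) ≤ Nat.card k := by exact_mod_cast Finite.one_lt_card (α := k)
    have hs2 : (Nat.card k : ℝ) ^ n = s * s := by
      rw [hs, ← Real.rpow_add (by linarith), ← Real.rpow_natCast]
      congr 1
      ring
    have hs3 : (2 * g : ℝ) ≤ s := by
      have h3 : (2 * g : ℝ) ≤ 2 ^ (2 * g) := by
        have : 2 * g < 2 ^ (2 * g) := Nat.lt_two_pow_self
        exact_mod_cast this.le
      have h4 : (2 : ℝ) ^ (2 * g) ≤ (Nat.card k : ℝ) ^ (2 * g) := pow_le_pow_left₀ (by norm_num) hq _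
      have h5 : (Nat.card k : ℝ) ^ (2 * g) ≤ s := by
        rw [hs, ← Real.rpow_natCast]
        apply Real.rpow_le_rpow_of_exponent_le (by linarith)
        have : (4 * g : ℝ) < n := by exact_mod_cast hn
        push_cast
        linarith
      linarith
    have hspos : 0 < s := by positivity
    rw [hs2, Nat.cast_zero, zero_sub, abs_neg, abs_of_pos (by positivity)] at h1
    nlinarith
  rw [PointCount.pointCount_eq] at hpos
  obtain ⟨d, hd, hd'⟩ := Finset.exists_ne_zero_of_sum_ne_zero hpos
  rw [Nat.mem_divisors, hk'] at hd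
  have h2 : Set.ncard {x : C | PointCount.degree (C ↘ Spec (CommRingCat.of k)) x = d} ≠ 0 := by
    intro h0
    apply hd'
    rw [h0, mul_zero]
  obtain ⟨x, hx⟩ := Set.nonempty_of_ncard_ne_zero h2
  have hx' : PointCount.degree (C ↘ Spec (CommRingCat.of k)) x = d := hx
  have hdpos : 0 < d := Nat.pos_of_dvd_of_pos hd.1 (Nat.pos_of_ne_zero hd.2)
  exact ⟨x, WCCount.isClosed_of_degree_pos _ x (by rw [hx']; exact hdpos), by rw [hx']; exact hd.1⟩

end K466.CurvePts
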