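import Groth.Agent.Zeta.K466.PicEq
import Groth.Agent.Zeta.K466.ClassNo
import Groth.Agent.Zeta.K466.Count
import Groth.Agent.Zeta.K466.CurvePts
import Groth.Agent.MiscA.WCBridge
import Groth.Agent.MiscA.WCMain
import Groth.Agent.MiscA.CurveConst
import Groth.Agent.MiscA.CurveH1E
import Groth.Agent.MiscA.CurveH1Place
import Groth.Agent.MiscA.WCSep
import Groth.Agent.Cohder.HWMain

/-!
# Zeta functions of curves and the number of invertible modules of degree zero
-/

set_option autoImplicit false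
universe u
open CategoryTheory AlgebraicGeometry WithZero TopologicalSpace

namespace K466.PicZeta

open Groth.Agent.MiscA Groth.Agent.MiscA.WCPlace Groth.Agent.MiscA.WCPlaceCrv
  Groth.Agent.MiscA.WCBridge Groth.Agent.MiscA.CurvePlaces Groth.Agent

/-- Isomorphism classes of invertible modules of degree `m`. -/
abbrev PicM (k : Type u) [Field k] (X : Scheme.{u}) [X.Over (Spec (CommRingCat.of k))] (m : ℤ) :
    Type (u + 1) :=
  {c : PicF.Cl X // ∃ L : X.Modules, PicF.cl L = c ∧ PicF.IsInvertible L ∧ Curv2.deg k X L 1 = m}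

open PowerSeries in
theorem zetaFun_eq_map_A' {k : Type u} [Field k] [Finite k] {X : Scheme.{u}}
    (f : X ⟶ Spec (CommRingCat.of k)) [LocallyOfFiniteType f] [QuasiCompact f] {P : Type u}
    (deg : P → ℕ) (hdeg : ∀ p, 0 < deg p) (hfin : ∀ d, Finite {p : P // deg p = d})
    (e : {x : X // IsClosed ({x} : Set X)} ≃ P) (he : ∀ x, deg (e x) = Count.cdeg f x) :
    Zeta.zetaFun f = PowerSeries.map (Int.castRingHom ℚ)
      (PowerSeries.mk fun n => (ZetaAbsCount.A deg n : ℤ)) := by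
  have hN : ∀ m, ZetaAbsCount.N (Count.cdeg f) m = ZetaAbsCount.N deg m := by
    intro m
    unfold ZetaAbsCount.N
    refine Finset.sum_congr rfl fun d _ => ?_
    congr 1
    exact Nat.card_congr (e.subtypeEquiv fun x => by rw [he])
  rw [Basic.zetaFun_eq_iff]
  constructor
  · have h1 := (ZetaAbsCount.logD_zeta deg hdeg hfin).map (Int.castRingHom ℚ)
    convert h1 using 1
    ext n
    rw [coeff_mk, coeff_map, coeff_mk]
    split_ifs with h
    · subst h; simp [Basic.nPts_zero]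
    · rw [Count.nPts_eq_N, hN]; simp
  · rw [← coeff_zero_eq_constantCoeff_apply, coeff_map, coeff_mk,
      ZetaAbsCount.A_zero deg hdeg]
    simp

theorem main (k : Type u) [Field k] [Finite k]
    (X : Scheme.{u}) [X.Over (Spec (CommRingCat.of k))]
    (hX : Curve.IsSmoothProperCurve k X (X ↘ Spec (CommRingCat.of k)))
    [GeometricallyIrreducible (X ↘ Spec (CommRingCat.of k))] :
    (∀ m : ℤ, Finite (PicM k X m) ∧ Nonempty (PicM k X m) ∧
      Nat.card (PicM k X m) = Nat.card (PicM k X 0)) ∧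
    ∃ P : Polynomial ℤ, P.natDegree ≤ 2 * Curv2.genus k X ∧ P.coeff 0 = 1 ∧
      P.eval 1 = Nat.card (PicM k X 0) ∧
      Zeta.zetaFun (X ↘ Spec (CommRingCat.of k)) *
          ((1 - PowerSeries.X) * (1 - PowerSeries.C (Nat.card k : ℚ) * PowerSeries.X)) =
        ((P.map (Int.castRingHom ℚ) : Polynomial ℚ) : PowerSeries ℚ) := by
  obtain ⟨hpr, hsm, hint, hdim⟩ := id hX
  set f := X ↘ Spec (CommRingCat.of k) with hf
  let := (Spec.preimage (CurvePlaces.genericPt X ≫ f)).hom.toAlgebra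
  have hk : CurvePlaces.genericPt X ≫ f =
      Spec.map (CommRingCat.ofHom (algebraMap k X.functionField)) :=
    (Spec.map_preimage _).symm
  -- separating element
  have hsep : ∃ t : X.functionField, IsSep k X.functionField t := WCSep.exists_isSep f hdim hk
  -- constants
  have hconst : ∀ x : X.functionField, IsAlgebraic k x →
      x ∈ (algebraMap k X.functionField).range :=
    fun x hx => CurveConst.mem_range_of_isAlgebraic k f hk x hx
  -- growth
  obtain ⟨c, hc⟩ : ∃ c : ℝ, ∀ n : ℕ, 1 ≤ n →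
      |(ZetaAbsCount.N (crv hsep).dg0 n : ℝ) - (Nat.card k : ℝ) ^ n| ≤
        c * Real.sqrt (Nat.card k) ^ n :=
    Groth.Agent.Cohder.HWMain.main hconst hsep
  have hgenus : (crv hsep).i 0 = Curv2.genus k X :=
    (CurveH1.i_zero_eq_finrank hk hdim hsep).2
  have hne := WCPlaceRes.nonempty_place hsep
  have hC := crv_fin hsep
  have h1 := WCPlaceRes.l_zero_eq_one hsep hconst
  have hq : 2 ≤ Nat.card k := Finite.one_lt_card
  have hPr : ∀ D ∈ ZetaCrv.prin (crv hsep), ZetaAbs.degZ (crv hsep).dg0 D = 0 := by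
    rintro _ ⟨f, hf, rfl⟩
    rw [ZetaCrv.degZ_eq]
    exact hC.deg_div hf
  have hRR : ∀ D, ZetaAbs.degZ (crv hsep).dg0 D + 1 - ((crv hsep).i 0 : ℕ) ≤ (crv hsep).l D := by
    intro D
    rw [ZetaCrv.degZ_eq]
    exact hC.le_l h1 D
  have hRR' : ∀ D, 2 * ((crv hsep).i 0 : ℤ) - 2 < ZetaAbs.degZ (crv hsep).dg0 D →
      ((crv hsep).l D : ℤ) = ZetaAbs.degZ (crv hsep).dg0 D + 1 - ((crv hsep).i 0 : ℕ) := by
    intro D hD
    rw [ZetaCrv.degZ_eq] at hD ⊢
    exact hC.l_eq h1 hD
  have hfinp := ZetaCrv.finite_places hC h1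
  obtain ⟨D₁, hD₁⟩ := ZetaAbs.exists_degHom_eq_one (crv hsep).dg0 (Nat.card k) hq c hc
  have heq := PicEq.exists_equiv k X hk hdim hsep hPr
  have hcard : ∀ m, Nat.card (ZetaAbs.ClN (crv hsep).dg0 (ZetaCrv.prin (crv hsep)) hPr m) =
      Nat.card (PicM k X m) := fun m => Nat.card_congr (heq m).some
  constructor
  · intro m
    have hfinN := ZetaAbs.finite_ClN (crv hsep).dg0 hC.dg0_pos hfinp (Nat.card k) ((crv hsep).i 0)
      hq (ZetaCrv.prin (crv hsep)) hPr (crv hsep).l (ZetaCrv.card_linearSystem hC h1) hRR D₁ hD₁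
    have hm := hfinN m
    refine ⟨Finite.of_equiv _ (heq m).some, ?_, ?_⟩
    · have h0 : Nonempty (ZetaAbs.ClN (crv hsep).dg0 (ZetaCrv.prin (crv hsep)) hPr 0) :=
        ⟨⟨0, map_zero _⟩⟩
      exact ⟨(heq m).some (ZetaAbs.translateEquiv _ _ hPr D₁ hD₁ 0 m h0.some)⟩
    · rw [← hcard, ← hcard]
      exact Nat.card_congr (ZetaAbs.translateEquiv _ _ hPr D₁ hD₁ m 0)
  · obtain ⟨P, hP1, hP2, hP3, hP4⟩ := ClassNo.exists_poly (crv hsep).dg0 hC.dg0_pos hfinp
      (Nat.card k) ((crv hsep).i 0) hq (ZetaCrv.prin (crv hsep)) hPr (crv hsep).l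
      (ZetaCrv.card_linearSystem hC h1) hRR hRR' D₁ hD₁
    refine ⟨P, by rw [← hgenus]; exact hP1, hP2, by rw [hP3, hcard], ?_⟩
    rw [zetaFun_eq_map_A' f (crv hsep).dg0 hC.dg0_pos hfinp (placeEquiv f hk hdim) (fun x =>
      (PicEq.residueDegree_eq k X hk hdim hsep x).symm)]
    have h2 := congrArg (PowerSeries.map (Int.castRingHom ℚ)) hP4
    rw [map_mul, map_mul, map_sub, map_sub, map_mul, map_one, PowerSeries.map_X,
      PowerSeries.map_C] at h2
    have h3 : (Int.castRingHom ℚ) (Nat.card k : ℤ) = (Nat.card k : ℚ) := by simp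
    rw [h3] at h2
    rw [mul_comm, Polynomial.polynomial_map_coe]
    exact h2

end K466.PicZeta
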