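import Groth.Agent.Zeta.K466.PCMain
import Mathlib.Algebra.MvPolynomial.Rename

/-!
# The number of points of an affine plane curve over a finite field

`planeCurve`: for every `d` there is `C` such that `|#{f = 0}(F) - #F| ≤ C √#F` for every finite field `F` and every
geometrically irreducible `f : MvPolynomial (Fin 2) F` of total degree at most `d`.
-/

set_option autoImplicit false
open Polynomial
open scoped Polynomial.Bivariate

namespace K466.PlaneCurve

open K466.PCConst

universe u

section conv

variable {R S : Type*} [CommRing R] [CommRing S]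

/-- Polynomials in two variables as bivariate polynomials. -/
noncomputable def conv (R : Type*) [CommRing R] : MvPolynomial (Fin 2) R ≃ₐ[R] R[X][Y] :=
  AlgEquiv.ofAlgHom (MvPolynomial.aeval ![C X, Y])
    (aevalAeval (MvPolynomial.X 0) (MvPolynomial.X 1))
    (by ext <;> simp)
    (by
      ext i
      fin_cases i <;> simp)

theorem conv_X0 : conv R (MvPolynomial.X 0) = C X := by simp [conv]

theorem conv_X1 : conv R (MvPolynomial.X 1) = Y := by simp [conv]

theorem conv_monomial (m : Fin 2 →₀ ℕ) (c : R) :
    conv R (MvPolynomial.monomial m c) = C (C c * X ^ (m 0)) * Y ^ (m 1) := by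
  rw [MvPolynomial.monomial_eq, Finsupp.prod_fintype _ _ (fun i => pow_zero _), Fin.prod_univ_two,
    map_mul, map_mul, map_pow, map_pow, conv_X0, conv_X1]
  have : conv R (MvPolynomial.C c) = C (C c) := by simp [conv]
  rw [this]
  simp only [C_mul, C_pow]
  ring

theorem conv_map (g : R →+* S) (f : MvPolynomial (Fin 2) R) :
    conv S (f.map g) = mapRingHom (mapRingHom g) (conv R f) := by
  induction f using MvPolynomial.induction_on' with
  | monomial m c =>
    rw [MvPolynomial.map_monomial, conv_monomial, conv_monomial]
    simp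
  | add p q hp hq => rw [map_add, map_add, map_add, map_add, hp, hq]

theorem evalEval_conv (f : MvPolynomial (Fin 2) R) (a b : R) :
    (conv R f).evalEval a b = MvPolynomial.eval ![a, b] f := by
  induction f using MvPolynomial.induction_on' with
  | monomial m c =>
    rw [conv_monomial, evalEval_mul, evalEval_pow, evalEval_C, evalEval_X, MvPolynomial.eval_monomial,
      Finsupp.prod_fintype _ _ (fun i => pow_zero _), Fin.prod_univ_two]
    simp [mul_assoc]
  | add p q hp hq => rw [map_add, evalEval_add, map_add, hp, hq]

theorem conv_eq_sum (f : MvPolynomial (Fin 2) R) :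
    conv R f = ∑ m ∈ f.support, C (C (f.coeff m) * X ^ (m 0)) * (Y : R[X][Y]) ^ (m 1) := by
  conv_lhs => rw [MvPolynomial.as_sum f]
  rw [map_sum]
  exact Finset.sum_congr rfl fun m _ => conv_monomial m _

theorem le_totalDegree (f : MvPolynomial (Fin 2) R) {m : Fin 2 →₀ ℕ} (hm : m ∈ f.support) :
    m 0 + m 1 ≤ f.totalDegree := by
  have h := MvPolynomial.le_totalDegree hm
  rwa [Finsupp.sum_fintype _ _ (fun i => rfl), Fin.sum_univ_two] at h

theorem natDegree_conv_le (f : MvPolynomial (Fin 2) R) : (conv R f).natDegree ≤ f.totalDegree := by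
  rw [conv_eq_sum]
  refine natDegree_sum_le_of_forall_le _ _ fun m hm => ?_
  refine (natDegree_C_mul_X_pow_le _ _).trans ?_
  have := le_totalDegree f hm
  omega

theorem natDegree_coeff_conv_le (f : MvPolynomial (Fin 2) R) (j : ℕ) :
    ((conv R f).coeff j).natDegree ≤ f.totalDegree - j := by
  rw [conv_eq_sum, finsetSum_coeff]
  refine natDegree_sum_le_of_forall_le _ _ fun m hm => ?_
  have := le_totalDegree f hm
  rw [coeff_C_mul_X_pow]
  split_ifs with h
  · refine (natDegree_C_mul_X_pow_le _ _).trans ?_
    omega
  · rw [natDegree_zero]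
    exact Nat.zero_le _

end conv

/-- **The number of points of a geometrically irreducible plane curve over a finite field.** -/
theorem planeCurve (d : ℕ) : ∃ C : ℝ, ∀ (F : Type u) [Field F] [Finite F] (f : MvPolynomial (Fin 2) F),
    f.totalDegree ≤ d → Irreducible (f.map (algebraMap F (AlgebraicClosure F))) →
    |(Nat.card {x : Fin 2 → F // MvPolynomial.eval x f = 0} : ℝ) - Nat.card F| ≤
      C * Real.sqrt (Nat.card F) := by
  refine ⟨1 + d + d ^ 2 + 3 * d ^ 3, fun F _ _ f hd hf => ?_⟩
  have h1 : Irreducible (bc F (conv F f)) := by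
    unfold bc
    rw [← conv_map]
    exact (MulEquiv.irreducible_iff (conv (AlgebraicClosure F))).2 hf
  have h2 := K466.PCMain.main d (conv F f).natDegree (conv F f) rfl ((natDegree_conv_le f).trans hd)
    (fun j => (natDegree_coeff_conv_le f j).trans (by omega)) h1
  have e : {x : Fin 2 → F // MvPolynomial.eval x f = 0} ≃
      {z : F × F // (conv F f).evalEval z.1 z.2 = 0} := by
    refine (finTwoArrowEquiv F).subtypeEquiv fun x => ?_
    rw [evalEval_conv]
    have : ![(finTwoArrowEquiv F x).1, (finTwoArrowEquiv F x).2] = x := by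
      ext i
      fin_cases i <;> rfl
    rw [this]
  rw [Nat.card_congr e]
  exact h2

end K466.PlaneCurve
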