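import Groth.Agent.Zeta.K466.PCFun
import Mathlib.RingTheory.Polynomial.UniqueFactorization

/-!
# The constants of a geometrically irreducible plane curve

`Mod.const`: if `F` stays irreducible over the algebraic closure, then `k` is algebraically closed in `k(x, y)`.
-/

set_option autoImplicit false
open Polynomial
open scoped Polynomial.Bivariate

namespace K466.PCConst

open K466.PCFun

universe u v

section lift

variable {R R' : Type*} [CommRing R] [CommRing R']

/-- Apply an additive map to the coefficients. -/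
noncomputable def lft (l : R' →+ R) : R'[X] →+ R[X] where
  toFun p := ∑ n ∈ p.support, monomial n (l (p.coeff n))
  map_zero' := by simp
  map_add' p q := by
    have h : ∀ p : R'[X], ∀ n, (∑ m ∈ p.support, monomial m (l (p.coeff m))).coeff n = l (p.coeff n) := by
      intro p n
      simp only [finsetSum_coeff, coeff_monomial, Finset.sum_ite_eq', mem_support_iff]
      by_cases hp : p.coeff n = 0
      · simp [hp]
      · simp [hp]
    ext n
    rw [h, coeff_add, coeff_add, h, h, map_add]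

theorem coeff_lft (l : R' →+ R) (p : R'[X]) (n : ℕ) : (lft l p).coeff n = l (p.coeff n) := by
  change (∑ m ∈ p.support, monomial m (l (p.coeff m))).coeff n = _
  simp only [finsetSum_coeff, coeff_monomial, Finset.sum_ite_eq', mem_support_iff]
  by_cases hp : p.coeff n = 0
  · simp [hp]
  · simp [hp]

/-- The linearity property. -/
theorem lft_mul (i : R →+* R') (l : R' →+ R) (h : ∀ r s, l (i r * s) = r * l s) (p : R[X]) (q : R'[X]) :
    lft l (p.map i * q) = p * lft l q := by
  ext n
  rw [coeff_lft, coeff_mul, coeff_mul, map_sum]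
  refine Finset.sum_congr rfl fun a _ => ?_
  rw [coeff_map, h, coeff_lft]

theorem lft_C (l : R' →+ R) (a : R') : lft l (C a) = C (l a) := by
  ext n
  rw [coeff_lft, coeff_C, coeff_C]
  split_ifs <;> simp

end lift

variable {k : Type u} {K : Type v} [Field k] [Field K] [Algebra k K]

/-- The base change of polynomials. -/
noncomputable def bc (k : Type u) [Field k] : k[X][Y] →+* (AlgebraicClosure k)[X][Y] :=
  mapRingHom (mapRingHom (algebraMap k (AlgebraicClosure k)))

/-- The functional on bivariate polynomials. -/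
noncomputable def lft2 (l : AlgebraicClosure k →ₗ[k] k) : (AlgebraicClosure k)[X][Y] →+ k[X][Y] :=
  lft (lft l.toAddMonoidHom)

theorem lft2_mul (l : AlgebraicClosure k →ₗ[k] k) (p : k[X][Y]) (q : (AlgebraicClosure k)[X][Y]) :
    lft2 l (bc k p * q) = p * lft2 l q := by
  refine lft_mul (mapRingHom (algebraMap k (AlgebraicClosure k))) _ ?_ p q
  intro r s
  refine lft_mul (algebraMap k (AlgebraicClosure k)) _ ?_ r s
  intro a b
  change l (algebraMap k (AlgebraicClosure k) a * b) = a * l b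
  rw [← Algebra.smul_def, map_smul, smul_eq_mul]

theorem lft2_C (l : AlgebraicClosure k →ₗ[k] k) (a : AlgebraicClosure k) :
    lft2 l (C (C a)) = C (C (l a)) := by
  unfold lft2
  rw [lft_C, lft_C]
  rfl

theorem dvd_of_dvd (F p q : k[X][Y]) (α : AlgebraicClosure k)
    (hd : bc k F ∣ bc k p - C (C α) * bc k q) (hq : ¬ F ∣ q) :
    ∃ c : k, F ∣ p - C (C c) * q := by
  obtain ⟨G, hG⟩ := hd
  by_cases hα : α ∈ (algebraMap k (AlgebraicClosure k)).range
  · obtain ⟨c, rfl⟩ := hα
    refine ⟨c, ?_⟩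
    obtain ⟨l, -, hl⟩ := LinearMap.exists_extend_of_notMem
      (p := (⊥ : Submodule k (AlgebraicClosure k))) (0 : _ →ₗ[k] k)
      (v := (1 : AlgebraicClosure k)) (by simp) (1 : k)
    refine ⟨lft2 l G, ?_⟩
    rw [← lft2_mul, ← hG]
    have h1 : bc k p - C (C (algebraMap k (AlgebraicClosure k) c)) * bc k q =
        bc k (p - C (C c) * q) * C (C 1) := by
      rw [map_sub, map_mul]
      have h2 : bc k (C (C c)) = C (C (algebraMap k (AlgebraicClosure k) c)) := by
        unfold bc
        rw [coe_mapRingHom, map_C, coe_mapRingHom, map_C]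
      rw [h2]
      simp
    rw [h1, lft2_mul, lft2_C, hl]
    simp
  · exfalso
    apply hq
    obtain ⟨l, hl1, hl2⟩ := LinearMap.exists_extend_of_notMem
      (p := LinearMap.range (Algebra.linearMap k (AlgebraicClosure k))) (0 : _ →ₗ[k] k)
      (v := α) (by
        rintro ⟨c, hc⟩
        exact hα ⟨c, hc⟩) (1 : k)
    have hl3 : l 1 = 0 := by
      have := LinearMap.congr_fun hl1 ⟨1, ⟨1, by simp⟩⟩
      simpa using this
    have h3 := congrArg (lft2 l) hG
    rw [lft2_mul, map_sub] at h3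
    have h4 : lft2 l (bc k p) = 0 := by
      have h5 : bc k p = bc k p * C (C 1) := by simp
      rw [h5, lft2_mul, lft2_C, hl3]
      simp
    have h6 : lft2 l (C (C α) * bc k q) = q := by
      rw [mul_comm, lft2_mul, lft2_C, hl2]
      simp
    rw [h4, h6, zero_sub] at h3
    rw [← dvd_neg]
    exact ⟨_, h3⟩

theorem dvd_of_bc_dvd (F q : k[X][Y]) (hd : bc k F ∣ bc k q) : F ∣ q := by
  obtain ⟨G, hG⟩ := hd
  obtain ⟨l, -, hl⟩ := LinearMap.exists_extend_of_notMem
    (p := (⊥ : Submodule k (AlgebraicClosure k))) (0 : _ →ₗ[k] k)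
    (v := (1 : AlgebraicClosure k)) (by simp) (1 : k)
  refine ⟨lft2 l G, ?_⟩
  rw [← lft2_mul, ← hG]
  have h1 : bc k q = bc k q * C (C 1) := by simp
  rw [h1, lft2_mul, lft2_C, hl]
  simp

/-- The homogenization of `μ` at `p, q`. -/
noncomputable def hom (μ : k[X]) (p q : k[X][Y]) : k[X][Y] :=
  ∑ j ∈ Finset.range (μ.natDegree + 1), C (C (μ.coeff j)) * p ^ j * q ^ (μ.natDegree - j)

theorem map_hom {L : Type*} [Field L] (φ : k[X][Y] →+* L) (μ : k[X]) (p q : k[X][Y]) (hq : φ q ≠ 0) :
    φ (hom μ p q) = φ q ^ μ.natDegree * μ.eval₂ (φ.comp ((C : k[X] →+* k[X][Y]).comp (C : k →+* k[X]))) (φ p / φ q) := by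
  rw [hom, map_sum, Polynomial.eval₂_eq_sum_range, Finset.mul_sum]
  refine Finset.sum_congr rfl fun j hj => ?_
  rw [Finset.mem_range] at hj
  rw [map_mul, map_mul, map_pow, map_pow, div_pow, RingHom.comp_apply, RingHom.comp_apply]
  have h1 : φ q ^ μ.natDegree = φ q ^ (μ.natDegree - j) * φ q ^ j := by
    rw [← pow_add]; congr 1; omega
  rw [h1]
  have h2 : φ q ^ j ≠ 0 := pow_ne_zero _ hq
  field_simp

theorem exists_field {B : Type v} [CommRing B] (I : Ideal B) [I.IsPrime] :
    ∃ (L : Type v) (_ : Field L) (π : B →+* L), ∀ p, π p = 0 ↔ p ∈ I := by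
  refine ⟨FractionRing (B ⧸ I), inferInstance,
    (algebraMap (B ⧸ I) (FractionRing (B ⧸ I))).comp (Ideal.Quotient.mk I), fun p => ?_⟩
  rw [RingHom.comp_apply, map_eq_zero_iff _ (IsFractionRing.injective _ _),
    Ideal.Quotient.eq_zero_iff_mem]

/-- The homogenized minimal polynomial. -/
theorem exists_factor (F p q : k[X][Y]) (hF : Irreducible (bc k F)) (hq : ¬ F ∣ q) (μ : k[X])
    (hμ : μ ≠ 0) (hd : F ∣ hom μ p q) :
    ∃ α : AlgebraicClosure k, bc k F ∣ bc k p - C (C α) * bc k q := by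
  classical
  have hprime : Prime (bc k F) := hF.prime
  let I : Ideal (AlgebraicClosure k)[X][Y] := Ideal.span {bc k F}
  have hI : I.IsPrime := (Ideal.span_singleton_prime hprime.ne_zero).mpr hprime
  obtain ⟨L, hL, π, hπ'⟩ := exists_field I
  have hπ : ∀ p, π p = 0 ↔ bc k F ∣ p := by
    intro p
    rw [hπ', Ideal.mem_span_singleton]
  let φ : k[X][Y] →+* L := π.comp (bc k)
  have hφq : φ q ≠ 0 := by
    intro h0
    exact hq (dvd_of_bc_dvd F q ((hπ _).mp h0))
  have h1 : φ (hom μ p q) = 0 := (hπ _).mpr (_root_.map_dvd (bc k) hd)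
  rw [map_hom φ μ p q hφq] at h1
  have h2 := (mul_eq_zero.mp h1).resolve_left (pow_ne_zero _ hφq)
  let ψ : AlgebraicClosure k →+* L := π.comp ((C : (AlgebraicClosure k)[X] →+* (AlgebraicClosure k)[X][Y]).comp
    (C : AlgebraicClosure k →+* (AlgebraicClosure k)[X]))
  have h3 : φ.comp ((C : k[X] →+* k[X][Y]).comp (C : k →+* k[X])) =
      ψ.comp (algebraMap k (AlgebraicClosure k)) := by
    ext a
    change π (bc k (C (C a))) = π (C (C (algebraMap k _ a)))
    congr 1
    unfold bc
    rw [coe_mapRingHom, map_C, coe_mapRingHom, map_C]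
  rw [h3, ← Polynomial.eval₂_map] at h2
  have hsp : (μ.map (algebraMap k (AlgebraicClosure k))).Splits := IsAlgClosed.splits _
  have h4 := hsp.map ψ
  have h5 : φ p / φ q ∈ ((μ.map (algebraMap k (AlgebraicClosure k))).map ψ).roots := by
    rw [Polynomial.mem_roots', IsRoot.def, ← Polynomial.eval₂_eq_eval_map]
    refine ⟨?_, h2⟩
    rw [Polynomial.map_ne_zero_iff ψ.injective, Polynomial.map_ne_zero_iff (algebraMap k _).injective]
    exact hμ
  rw [hsp.roots_map, Multiset.mem_map] at h5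
  obtain ⟨α, -, hα⟩ := h5
  refine ⟨α, ?_⟩
  rw [← hπ, map_sub, map_mul, sub_eq_zero]
  rw [eq_div_iff hφq] at hα
  exact hα.symm

theorem _root_.K466.PCFun.Mod.const {F : k[X][Y]} {x y : K} (h : Mod F x y) (hF : Irreducible (bc k F)) (z : K)
    (hz : IsAlgebraic k z) : z ∈ (algebraMap k K).range := by
  obtain ⟨μ, hμ0, hμ⟩ := hz
  obtain ⟨p, q, hq, rfl⟩ := h.frac z
  have h1 : F ∣ hom μ p q := by
    rw [← h.dvd]
    have h2 := map_hom (aevalAeval x y : k[X][Y] →ₐ[k] K).toRingHom μ p q hq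
    have h3 : ((aevalAeval x y : k[X][Y] →ₐ[k] K).toRingHom.comp ((C : k[X] →+* k[X][Y]).comp (C : k →+* k[X]))) =
        algebraMap k K := by
      ext a
      change aevalAeval x y (C (C a)) = _
      rw [aevalAeval_C, aeval_C]
    rw [h3] at h2
    rw [Polynomial.aeval_def] at hμ
    have h4 : μ.eval₂ (algebraMap k K) ((aevalAeval x y : k[X][Y] →ₐ[k] K).toRingHom p /
        (aevalAeval x y : k[X][Y] →ₐ[k] K).toRingHom q) = 0 := hμ
    rw [h4, mul_zero] at h2
    exact h2
  have hqF : ¬ F ∣ q := by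
    rw [← h.dvd]; exact hq
  obtain ⟨α, hα⟩ := exists_factor F p q hF hqF μ hμ0 h1
  obtain ⟨c, hc⟩ := dvd_of_dvd F p q α hα hqF
  refine ⟨c, ?_⟩
  rw [← h.dvd, map_sub, map_mul, aevalAeval_C, aeval_C, sub_eq_zero] at hc
  rw [hc, mul_div_assoc, div_self hq, mul_one]

end K466.PCConst
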