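import Groth.Agent.Zeta.K466.PCPlace
import Groth.Agent.Zeta.K466.PCPole
import Groth.Agent.MiscA.ZetaCrv

/-!
# Points of a plane curve and places of degree one

`abs_sub_le`: the number of points of the affine curve `F = 0` differs from the number of places of degree one by a
quantity bounded in terms of the degree of `F`.
-/

set_option autoImplicit false
open WithZero Polynomial
open scoped Polynomial.Bivariate

namespace K466.PCCount

open Groth.Agent.MiscA.WCPlace Groth.Agent.MiscA.WCPlaceCrv Groth.Agent.MiscA.WCPlaceRes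
  Groth.Agent.Models.FFRR K466.PCFun K466.PCDeg K466.PCPole K466.PCPlace

universe u v

variable {k : Type u} {K : Type v} [Field k] [Field K] [Algebra k K]
variable {F : k[X][Y]} {x y : K}

section

variable (hM : Mod F x y) (hn : 0 < F.natDegree) (hF' : derivative F ≠ 0) {t : K} (h : IsSep k K t)

include hM hn in
theorem lc_ne_zero : aeval x F.leadingCoeff ≠ 0 := by
  intro h0
  apply hM.transcendental hn
  refine ⟨F.leadingCoeff, ?_, h0⟩
  rw [Ne, leadingCoeff_eq_zero]
  exact Mod.ne_zero hn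

include hM hn hF' in
theorem der_ne_zero : aevalAeval x y (derivative F) ≠ 0 := by
  rw [Ne, hM.dvd]
  intro hd
  have h1 := Polynomial.natDegree_le_of_dvd hd hF'
  have h2 := Polynomial.natDegree_derivative_lt hn.ne'
  omega

variable {d : ℕ} (hd : ∀ j, (F.coeff j).natDegree ≤ d)

include hM hn hd in
/-- `w = a_n(x) y` is in `L(d (x)_∞)`. -/
theorem w_mem : aeval x F.leadingCoeff * y ∈ (crv ⟨t, h⟩).L (d • pole (crv ⟨t, h⟩) x) := by
  refine mem_L_of_monic (n := F.natDegree)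
    (fun j => aeval x (- (F.coeff j * F.leadingCoeff ^ (F.natDegree - 1 - j)))) ?_ (hM.pow_eq hn)
  intro j hj
  rw [← mul_smul]
  refine aeval_mem_L (mem_L_pole x) (pole_nonneg x) _ _ ?_
  rw [natDegree_neg]
  refine (natDegree_mul_le).trans ?_
  have h1 := hd j
  have h2 : (F.leadingCoeff ^ (F.natDegree - 1 - j)).natDegree ≤ (F.natDegree - 1 - j) * d :=
    natDegree_pow_le.trans (Nat.mul_le_mul_left _ (hd _))
  obtain ⟨m, hm⟩ : ∃ m, F.natDegree - j = m + 1 := ⟨F.natDegree - 1 - j, by omega⟩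
  have h3 : F.natDegree - 1 - j = m := by omega
  rw [hm]
  rw [h3] at h2 ⊢
  nlinarith

theorem der_eq :
    aeval x F.leadingCoeff ^ (F.natDegree - 1) * aevalAeval x y (derivative F) =
      ∑ j ∈ Finset.range F.natDegree,
        ((j + 1 : ℕ) : k) • (aeval x (F.coeff (j + 1) * F.leadingCoeff ^ (F.natDegree - 1 - j)) *
          (aeval x F.leadingCoeff * y) ^ j) := by
  have h1 : derivative F = ∑ j ∈ Finset.range F.natDegree,
      C (F.coeff (j + 1) * ((j + 1 : ℕ) : k[X])) * (Y : k[X][Y]) ^ j := by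
    ext m : 1
    rw [coeff_derivative, finsetSum_coeff]
    simp only [coeff_C_mul, coeff_X_pow, mul_ite, mul_one, mul_zero, Finset.sum_ite_eq, Finset.mem_range]
    split_ifs with hm
    · push_cast; rfl
    · rw [coeff_eq_zero_of_natDegree_lt (by omega), zero_mul]
  rw [h1, map_sum, Finset.mul_sum]
  refine Finset.sum_congr rfl fun j hj => ?_
  rw [Finset.mem_range] at hj
  rw [map_mul, map_pow, aevalAeval_C, aevalAeval_Y, Algebra.smul_def, map_mul, map_mul, map_pow, mul_pow,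
    map_natCast, map_natCast]
  have h2 : aeval x F.leadingCoeff ^ (F.natDegree - 1) =
      aeval x F.leadingCoeff ^ (F.natDegree - 1 - j) * aeval x F.leadingCoeff ^ j := by
    rw [← pow_add]; congr 1; omega
  rw [h2]
  ring

include hM hn hd in
theorem der_mem : aeval x F.leadingCoeff ^ (F.natDegree - 1) * aevalAeval x y (derivative F) ∈
    (crv ⟨t, h⟩).L ((d * F.natDegree) • pole (crv ⟨t, h⟩) x) := by
  rw [der_eq]
  refine Submodule.sum_mem _ fun j hj => Submodule.smul_mem _ _ ?_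
  rw [Finset.mem_range] at hj
  have h1 : aeval x (F.coeff (j + 1) * F.leadingCoeff ^ (F.natDegree - 1 - j)) ∈
      (crv ⟨t, h⟩).L ((d * (F.natDegree - j)) • pole (crv ⟨t, h⟩) x) := by
    refine aeval_mem_L (mem_L_pole x) (pole_nonneg x) _ _ ?_
    refine (natDegree_mul_le).trans ?_
    have h1 := hd (j + 1)
    have h2 : (F.leadingCoeff ^ (F.natDegree - 1 - j)).natDegree ≤ (F.natDegree - 1 - j) * d :=
      natDegree_pow_le.trans (Nat.mul_le_mul_left _ (hd _))
    obtain ⟨m, hm⟩ : ∃ m, F.natDegree - j = m + 1 := ⟨F.natDegree - 1 - j, by omega⟩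
    have h3 : F.natDegree - 1 - j = m := by omega
    rw [hm]
    rw [h3] at h2 ⊢
    nlinarith
  have h2 := pow_mem_L (w_mem hM hn h hd) j
  have h3 := mul_mem_L h1 h2
  rw [← mul_smul, ← add_smul] at h3
  refine (crv ⟨t, h⟩).L_mono (nsmul_mono (pole_nonneg x) ?_) h3
  have : d * (F.natDegree - j) + j * d = d * (F.natDegree - j + j) := by ring
  rw [this, Nat.sub_add_cancel hj.le]

end

section bounds

variable (hM : Mod F x y) (hn : 0 < F.natDegree) (h : IsSep k K x) {d : ℕ} (hd : ∀ j, (F.coeff j).natDegree ≤ d)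

include hM hn in
theorem deg_pole_x : (crv ⟨x, h⟩).deg (pole (crv ⟨x, h⟩) x) ≤ F.natDegree :=
  deg_pole_le h _ (hM.finrank_le hn).2

include hM hn h in
theorem card_B1 : {P : Place k K | x ∉ P.1}.Finite ∧
    (({P : Place k K | x ∉ P.1}.ncard : ℕ) : ℤ) ≤ F.natDegree := by
  have h1 := ncard_poles_le (C := crv ⟨x, h⟩) (crv_fin ⟨x, h⟩) h.ne_zero
  have h2 : {P : Place k K | 1 < (crv ⟨x, h⟩).v P x} = {P : Place k K | x ∉ P.1} := by
    ext P
    rw [Set.mem_ofPred_eq, Set.mem_ofPred_eq, crv_v, ← h.val_le_one_iff, not_le]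
  rw [h2] at h1
  exact ⟨h1.1, h1.2.trans (deg_pole_x hM hn h)⟩

include hM hn h hd in
theorem card_B2 : {P : Place k K | x ∈ P.1 ∧ y ∉ P.1}.Finite ∧
    (({P : Place k K | x ∈ P.1 ∧ y ∉ P.1}.ncard : ℕ) : ℤ) ≤ d * F.natDegree := by
  have hle : {P : Place k K | x ∈ P.1 ∧ y ∉ P.1} ⊆
      {P : Place k K | (crv ⟨x, h⟩).v P (aeval x F.leadingCoeff) < 1} := by
    rintro P ⟨hxP, hyP⟩
    rw [Set.mem_ofPred_eq]
    by_contra hlt
    push Not at hlt
    apply hyP
    rw [← h.val_le_one_iff] at hxP ⊢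
    have hw := (Crv.mem_L _).mp (w_mem hM hn h hd) P
    have hD : pole (crv ⟨x, h⟩) x P = 0 := by
      rw [pole_apply, max_eq_right]
      have h1 := (crv ⟨x, h⟩).v_eq_exp h.ne_zero P
      have h2 : (crv ⟨x, h⟩).v P x ≤ 1 := hxP
      rw [h1, ← exp_zero, exp_le_exp] at h2
      omega
    rw [Finsupp.smul_apply, hD, smul_zero, exp_zero, map_mul] at hw
    calc P.val y = 1 * P.val y := (one_mul _).symm
      _ ≤ (crv ⟨x, h⟩).v P (aeval x F.leadingCoeff) * P.val y := mul_le_mul_left hlt _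
      _ ≤ 1 := hw
  have h1 := ncard_zeros_le (C := crv ⟨x, h⟩) (crv_fin ⟨x, h⟩) (lc_ne_zero hM hn)
    (D := d • pole (crv ⟨x, h⟩) x) (nsmul_nonneg (pole_nonneg x) _)
    (aeval_mem_L (mem_L_pole x) (pole_nonneg x) _ _ (hd _))
  refine ⟨h1.1.subset hle, ?_⟩
  have h2 := Set.ncard_le_ncard hle h1.1
  have h3 := deg_pole_x hM hn h
  have h4 := h1.2
  rw [map_nsmul, nsmul_eq_mul] at h4
  calc (({P : Place k K | x ∈ P.1 ∧ y ∉ P.1}.ncard : ℕ) : ℤ) ≤ _ := by exact_mod_cast h2
    _ ≤ _ := h4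
    _ ≤ _ := by gcongr

include hM hn h hd in
theorem card_B3 (hF' : derivative F ≠ 0) :
    {P : Place k K | x ∈ P.1 ∧ y ∈ P.1 ∧ P.val (aevalAeval x y (derivative F)) < 1}.Finite ∧
    (({P : Place k K | x ∈ P.1 ∧ y ∈ P.1 ∧ P.val (aevalAeval x y (derivative F)) < 1}.ncard : ℕ) : ℤ) ≤
      d * F.natDegree * F.natDegree := by
  set H := aeval x F.leadingCoeff ^ (F.natDegree - 1) * aevalAeval x y (derivative F) with hH
  have hH0 : H ≠ 0 := mul_ne_zero (pow_ne_zero _ (lc_ne_zero hM hn)) (der_ne_zero hM hn hF')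
  have hle : {P : Place k K | x ∈ P.1 ∧ y ∈ P.1 ∧ P.val (aevalAeval x y (derivative F)) < 1} ⊆
      {P : Place k K | (crv ⟨x, h⟩).v P H < 1} := by
    rintro P ⟨hxP, hyP, hP⟩
    rw [Set.mem_ofPred_eq, crv_v, hH, map_mul, map_pow]
    refine lt_of_le_of_lt (mul_le_of_le_one_left' ?_) hP
    refine pow_le_one' ?_ _
    rw [h.val_le_one_iff]
    exact aeval_mem P hxP _
  have h1 := ncard_zeros_le (C := crv ⟨x, h⟩) (crv_fin ⟨x, h⟩) hH0
    (D := (d * F.natDegree) • pole (crv ⟨x, h⟩) x) (nsmul_nonneg (pole_nonneg x) _)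
    (der_mem hM hn h hd)
  refine ⟨h1.1.subset hle, ?_⟩
  have h2 := Set.ncard_le_ncard hle h1.1
  have h3 := deg_pole_x hM hn h
  have h4 := h1.2
  rw [map_nsmul, nsmul_eq_mul] at h4
  refine (Int.ofNat_le.2 h2).trans (h4.trans ?_)
  push_cast
  gcongr

end bounds

section main

variable (hM : Mod F x y) (hn : 0 < F.natDegree) (h : IsSep k K x) {d : ℕ} (hd : ∀ j, (F.coeff j).natDegree ≤ d)

/-- The places of degree one. -/
def S1 (h : IsSep k K x) : Set (Place k K) := {P | (crv ⟨x, h⟩).dg0 P = 1}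

/-- The points of the curve. -/
def Z (F : k[X][Y]) : Set (k × k) := {z | F.evalEval z.1 z.2 = 0}

theorem N_one (h : IsSep k K x) :
    Groth.Agent.MiscA.ZetaAbsCount.N (crv ⟨x, h⟩).dg0 1 = (S1 h).ncard := by
  unfold Groth.Agent.MiscA.ZetaAbsCount.N
  rw [Nat.divisors_one, Finset.sum_singleton, one_mul]
  rfl

include hM hn h hd in
theorem card_le [Finite k] (hF' : derivative F ≠ 0) (hfin : (S1 h).Finite) :
    ((S1 h).ncard : ℤ) ≤ (Z F).ncard + (F.natDegree + d * F.natDegree + d * F.natDegree * F.natDegree) ∧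
    ((Z F).ncard : ℤ) ≤ (S1 h).ncard + d * F.natDegree * F.natDegree := by
  classical
  obtain ⟨hf1, hb1⟩ := card_B1 hM hn h
  obtain ⟨hf2, hb2⟩ := card_B2 hM hn h hd
  obtain ⟨hf3, hb3⟩ := card_B3 hM hn h hd hF'
  set B1 := {P : Place k K | x ∉ P.1}
  set B2 := {P : Place k K | x ∈ P.1 ∧ y ∉ P.1}
  set B3 := {P : Place k K | x ∈ P.1 ∧ y ∈ P.1 ∧ P.val (aevalAeval x y (derivative F)) < 1}
  have hx_mem : ∀ {P : Place k K} {a b : k}, Cen P x y a b → x ∈ P.1 ∧ y ∈ P.1 := by
    intro P a b hc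
    rw [← h.val_le_one_iff, ← h.val_le_one_iff]
    have h1 := val_le_one_of_cen h hc (C X)
    have h2 := val_le_one_of_cen h hc Y
    rw [aevalAeval_C, aeval_X] at h1
    rw [aevalAeval_Y] at h2
    exact ⟨h1, h2⟩
  have hZfin : (Z F).Finite := Set.toFinite _
  constructor
  · let G : Set (Place k K) := {P | ∃ a b : k, Cen P x y a b ∧ (derivative F).evalEval a b ≠ 0}
    have hG : ∀ P : G, ∃ z : k × k, Cen P.1 x y z.1 z.2 ∧ (derivative F).evalEval z.1 z.2 ≠ 0 :=
      fun P => by obtain ⟨a, b, hab⟩ := P.2; exact ⟨(a, b), hab⟩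
    choose z hz1 hz2 using hG
    let φ : G → Z F := fun P => ⟨z P, evalEval_eq_zero hM h (hz1 P)⟩
    have hφ : Function.Injective φ := by
      intro P Q hPQ
      have h1 : z P = z Q := congrArg Subtype.val hPQ
      apply Subtype.ext
      have h2 := hz1 Q
      rw [← h1] at h2
      exact cen_unique hM hn h (hz2 P) (hz1 P) h2
    have hGfin : G.Finite := Set.finite_coe_iff.1 (Finite.of_injective φ hφ)
    have hGcard : G.ncard ≤ (Z F).ncard := Nat.card_le_card_of_injective φ hφ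
    have hsub : S1 h ⊆ G ∪ (B1 ∪ (B2 ∪ B3)) := by
      intro P hP
      by_cases hxP : x ∈ P.1
      · by_cases hyP : y ∈ P.1
        · obtain ⟨a, b, hab⟩ := exists_cen_of_dg0 h hxP hyP hP
          by_cases hab' : (derivative F).evalEval a b = 0
          · exact Or.inr (Or.inr (Or.inr ⟨hxP, hyP, (val_lt_one_iff h hab _).2 hab'⟩))
          · exact Or.inl ⟨a, b, hab, hab'⟩
        · exact Or.inr (Or.inr (Or.inl ⟨hxP, hyP⟩))
      · exact Or.inr (Or.inl hxP)
    have h1 := Set.ncard_le_ncard hsub (hGfin.union (hf1.union (hf2.union hf3)))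
    have h2 := Set.ncard_union_le G (B1 ∪ (B2 ∪ B3))
    have h3 := Set.ncard_union_le B1 (B2 ∪ B3)
    have h4 := Set.ncard_union_le B2 B3
    have h5 : (S1 h).ncard ≤ (Z F).ncard + (B1.ncard + (B2.ncard + B3.ncard)) := by omega
    have h6 : ((S1 h).ncard : ℤ) ≤ ((Z F).ncard : ℤ) + (B1.ncard + (B2.ncard + B3.ncard)) := by
      exact_mod_cast h5
    linarith
  · have hZ : ∀ w : Z F, ∃ P : Place k K, Cen P x y w.1.1 w.1.2 := fun w => exists_cen hM hn h w.2
    choose P hP using hZ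
    have hmem : ∀ w : Z F, P w ∈ S1 h ∪ B3 := by
      intro w
      by_cases hw : (derivative F).evalEval w.1.1 w.1.2 = 0
      · obtain ⟨h1, h2⟩ := hx_mem (hP w)
        exact Or.inr ⟨h1, h2, (val_lt_one_iff h (hP w) _).2 hw⟩
      · exact Or.inl (dg0_of_cen hM hn h hw (hP w))
    let φ : Z F → (S1 h ∪ B3 : Set (Place k K)) := fun w => ⟨P w, hmem w⟩
    have hφ : Function.Injective φ := by
      intro w w' hww
      have h1 : P w = P w' := congrArg Subtype.val hww
      have h2 := hP w'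
      rw [← h1] at h2
      obtain ⟨h3, h4⟩ := cen_point_unique h (hP w) h2
      exact Subtype.ext (Prod.ext h3 h4)
    have hfinU : Finite (S1 h ∪ B3 : Set (Place k K)) := (hfin.union hf3).to_subtype
    have h1 : (Z F).ncard ≤ (S1 h ∪ B3).ncard := Nat.card_le_card_of_injective φ hφ
    have h2 := Set.ncard_union_le (S1 h) B3
    have h5 : (Z F).ncard ≤ (S1 h).ncard + B3.ncard := by omega
    have h6 : ((Z F).ncard : ℤ) ≤ ((S1 h).ncard : ℤ) + B3.ncard := by exact_mod_cast h5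
    linarith

end main

end K466.PCCount
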