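import Groth.Agent.MiscA.WCPlace
import Mathlib.Algebra.Polynomial.Bivariate
import Mathlib.FieldTheory.SeparableDegree
import Mathlib.FieldTheory.IntermediateField.Adjoin.Basic
import Mathlib.FieldTheory.IsAlgClosed.AlgebraicClosure

/-!
# The function field of a plane curve

`Mod F x y`: `K = k(x, y)` with `F` generating the ideal of relations between `x` and `y`.
-/

set_option autoImplicit false
open Polynomial
open scoped Polynomial.Bivariate

namespace K466.PCFun

open Groth.Agent.MiscA.WCPlace

universe u v

variable {k : Type u} {K : Type v} [Field k] [Field K] [Algebra k K]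

/-- `K` is the function field of the plane curve `F(x, y) = 0`. -/
structure Mod (F : k[X][Y]) (x y : K) : Prop where
  dvd : ∀ p : k[X][Y], aevalAeval x y p = 0 ↔ F ∣ p
  frac : ∀ z : K, ∃ p q : k[X][Y], aevalAeval x y q ≠ 0 ∧ z = aevalAeval x y p / aevalAeval x y q

variable {F : k[X][Y]} {x y : K}

theorem aevalAeval_sum (n : ℕ) (b : Fin n → k[X]) :
    aevalAeval x y (∑ j, C (b j) * (X : k[X][Y]) ^ (j : ℕ)) = ∑ j, aeval x (b j) * y ^ (j : ℕ) := by
  rw [map_sum]
  refine Finset.sum_congr rfl fun j _ => ?_
  rw [map_mul, map_pow, aevalAeval_C, aevalAeval_Y]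

theorem Mod.transcendental (h : Mod F x y) (hn : 0 < F.natDegree) : Transcendental k x := by
  rintro ⟨p, hp0, hp⟩
  have h1 : aevalAeval x y (C p : k[X][Y]) = 0 := by rw [aevalAeval_C, hp]
  rw [h.dvd] at h1
  have h2 := Polynomial.natDegree_le_of_dvd h1 (by rwa [Ne, C_eq_zero])
  rw [natDegree_C] at h2
  omega

theorem Mod.indep (h : Mod F x y) (b : Fin F.natDegree → k[X])
    (hb : ∑ j, aeval x (b j) * y ^ (j : ℕ) = 0) : ∀ j, b j = 0 := by
  classical
  rw [← aevalAeval_sum, h.dvd] at hb
  have hq : (∑ j, C (b j) * (X : k[X][Y]) ^ (j : ℕ)) = 0 := by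
    by_contra hne
    have h1 := Polynomial.natDegree_le_of_dvd hb hne
    have hpos : 0 < F.natDegree := by
      by_contra h0
      apply hne
      have : IsEmpty (Fin F.natDegree) := by
        rw [Nat.eq_zero_of_not_pos h0]; infer_instance
      exact Finset.sum_of_isEmpty _
    have h2 : (∑ j, C (b j) * (X : k[X][Y]) ^ (j : ℕ)).natDegree ≤ F.natDegree - 1 := by
      refine Polynomial.natDegree_sum_le_of_forall_le _ _ fun j _ => ?_
      refine (Polynomial.natDegree_C_mul_X_pow_le _ _).trans ?_
      have := j.2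
      omega
    omega
  intro j
  have h3 := congrArg (fun q => Polynomial.coeff q (j : ℕ)) hq
  simp only [finsetSum_coeff, coeff_C_mul, coeff_X_pow, coeff_zero, mul_ite, mul_one, mul_zero] at h3
  rw [Finset.sum_eq_single j] at h3
  · simpa using h3
  · intro i _ hi
    rw [if_neg]
    intro h
    exact hi (Fin.ext h.symm)
  · intro h
    exact absurd (Finset.mem_univ _) h

theorem Mod.indep_mul (h : Mod F x y) {a : k[X]} (ha : a ≠ 0) (b : Fin F.natDegree → k[X])
    (hb : ∑ j, aeval x (b j) * (aeval x a * y) ^ (j : ℕ) = 0) : ∀ j, b j = 0 := by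
  have h1 : ∑ j, aeval x (b j * a ^ (j : ℕ)) * y ^ (j : ℕ) = 0 := by
    rw [← hb]
    refine Finset.sum_congr rfl fun j _ => ?_
    rw [map_mul, map_pow, mul_pow]
    ring
  intro j
  have h2 := h.indep _ h1 j
  exact (mul_eq_zero.mp h2).resolve_right (pow_ne_zero _ ha)

/-- The polynomial ring over `k[x]` mapped to `k(x)`. -/
noncomputable def toE (x : K) : k[X] →+* IntermediateField.adjoin k {x} :=
  (aeval (⟨x, IntermediateField.mem_adjoin_simple_self k x⟩ : IntermediateField.adjoin k {x}) :
    k[X] →ₐ[k] IntermediateField.adjoin k {x}).toRingHom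

theorem coe_toE (x : K) (p : k[X]) : ((toE x p : IntermediateField.adjoin k {x}) : K) = aeval x p := by
  unfold toE
  have := Polynomial.aeval_algebraMap_apply K
    (⟨x, IntermediateField.mem_adjoin_simple_self k x⟩ : IntermediateField.adjoin k {x}) p
  exact this.symm

theorem aeval_map_toE (p : k[X][Y]) : aeval y (p.map (toE x)) = aevalAeval x y p := by
  rw [Polynomial.aeval_def, Polynomial.eval₂_map]
  rw [Polynomial.eval₂_eq_sum_range]
  conv_rhs => rw [Polynomial.as_sum_range_C_mul_X_pow p]
  rw [map_sum]
  refine Finset.sum_congr rfl fun j _ => ?_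
  rw [map_mul, map_pow, aevalAeval_C, aevalAeval_Y, RingHom.comp_apply]
  rw [← coe_toE x]
  rfl

theorem Mod.toE_injective (h : Mod F x y) (hn : 0 < F.natDegree) : Function.Injective (toE (k := k) x) := by
  rw [injective_iff_map_eq_zero]
  intro p hp
  by_contra hp0
  apply h.transcendental hn
  refine ⟨p, hp0, ?_⟩
  rw [← coe_toE, hp]
  rfl

theorem Mod.map_ne_zero (h : Mod F x y) (hn : 0 < F.natDegree) {p : k[X][Y]} (hp : p ≠ 0) :
    p.map (toE x) ≠ 0 :=
  (Polynomial.map_ne_zero_iff (h.toE_injective hn)).mpr hp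

theorem Mod.ne_zero (hn : 0 < F.natDegree) : F ≠ 0 := by
  rintro rfl
  simp at hn

theorem Mod.isIntegral (h : Mod F x y) (hn : 0 < F.natDegree) :
    IsIntegral (IntermediateField.adjoin k {x}) y := by
  rw [← isAlgebraic_iff_isIntegral]
  refine ⟨F.map (toE x), h.map_ne_zero hn (Mod.ne_zero hn), ?_⟩
  rw [aeval_map_toE, h.dvd]

theorem Mod.adjoin_eq_top (h : Mod F x y) :
    IntermediateField.adjoin (IntermediateField.adjoin k {x}) {y} = ⊤ := by
  rw [eq_top_iff]
  intro z _
  obtain ⟨p, q, hq, rfl⟩ := h.frac z
  have hmem : ∀ p : k[X][Y], aevalAeval x y p ∈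
      IntermediateField.adjoin (IntermediateField.adjoin k {x}) {y} := by
    intro p
    rw [← aeval_map_toE]
    rw [Polynomial.aeval_eq_sum_range]
    refine sum_mem fun i _ => ?_
    refine IntermediateField.smul_mem _ ?_
    exact pow_mem (IntermediateField.mem_adjoin_simple_self _ y) i
  exact div_mem (hmem p) (hmem q)

theorem Mod.finrank_le (h : Mod F x y) (hn : 0 < F.natDegree) :
    FiniteDimensional (IntermediateField.adjoin k {x}) K ∧
      Module.finrank (IntermediateField.adjoin k {x}) K ≤ F.natDegree := by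
  have hint := h.isIntegral hn
  have h1 := IntermediateField.adjoin.finiteDimensional hint
  have h2 := IntermediateField.adjoin.finrank hint
  rw [h.adjoin_eq_top] at h1 h2
  constructor
  · exact Module.Finite.equiv (IntermediateField.topEquiv (F := IntermediateField.adjoin k {x})
      (E := K)).toLinearEquiv
  · rw [IntermediateField.finrank_top'] at h2
    rw [h2]
    have h3 : minpoly (IntermediateField.adjoin k {x}) y ∣ F.map (toE x) := by
      apply minpoly.dvd
      rw [aeval_map_toE, h.dvd]
    refine (Polynomial.natDegree_le_of_dvd h3 (h.map_ne_zero hn (Mod.ne_zero hn))).trans ?_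
    exact Polynomial.natDegree_map_le

theorem Mod.isSep (h : Mod F x y) (hn : 0 < F.natDegree) (hF : derivative F ≠ 0) : IsSep k K x where
  tr := h.transcendental hn
  fin := (h.finrank_le hn).1
  sep := by
    have hint := h.isIntegral hn
    have h0 : aevalAeval x y (derivative F) ≠ 0 := by
      rw [Ne, h.dvd]
      intro hd
      have h1 := Polynomial.natDegree_le_of_dvd hd hF
      have h2 := Polynomial.natDegree_derivative_lt hn.ne'
      omega
    have hsep : IsSeparable (IntermediateField.adjoin k {x}) y := by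
      unfold IsSeparable
      rw [Polynomial.separable_iff_derivative_ne_zero (minpoly.irreducible hint)]
      intro hm
      apply h0
      have h3 : minpoly (IntermediateField.adjoin k {x}) y ∣ F.map (toE x) := by
        apply minpoly.dvd
        rw [aeval_map_toE, h.dvd]
      obtain ⟨g, hg⟩ := h3
      have h4 := congrArg derivative hg
      rw [derivative_mul, hm, zero_mul, zero_add, derivative_map] at h4
      have h5 := congrArg (aeval y) h4
      rw [map_mul, minpoly.aeval, zero_mul, aeval_map_toE] at h5
      exact h5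
    have h6 := (IntermediateField.isSeparable_adjoin_simple_iff_isSeparable
      (IntermediateField.adjoin k {x}) K).mpr hsep
    rw [h.adjoin_eq_top] at h6
    exact Algebra.IsSeparable.of_algHom _ _
      (IntermediateField.topEquiv (F := IntermediateField.adjoin k {x}) (E := K)).symm.toAlgHom

/-- The integral equation of `w = a_n(x) y`. -/
theorem Mod.pow_eq (h : Mod F x y) (hn : 0 < F.natDegree) :
    (aeval x F.leadingCoeff * y) ^ F.natDegree = ∑ j ∈ Finset.range F.natDegree,
      aeval x (- (F.coeff j * F.leadingCoeff ^ (F.natDegree - 1 - j))) *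
        (aeval x F.leadingCoeff * y) ^ j := by
  have h1 : aevalAeval x y F = 0 := (h.dvd F).mpr dvd_rfl
  have h2 : aevalAeval x y F = ∑ j ∈ Finset.range (F.natDegree + 1), aeval x (F.coeff j) * y ^ j := by
    conv_lhs => rw [Polynomial.as_sum_range_C_mul_X_pow F]
    rw [map_sum]
    refine Finset.sum_congr rfl fun j _ => ?_
    rw [map_mul, map_pow, aevalAeval_C, aevalAeval_Y]
  rw [h2, Finset.sum_range_succ, coeff_natDegree] at h1
  have h3 := eq_neg_of_add_eq_zero_right h1
  have h4 : (aeval x F.leadingCoeff * y) ^ F.natDegree =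
      aeval x F.leadingCoeff ^ (F.natDegree - 1) * (aeval x F.leadingCoeff * y ^ F.natDegree) := by
    rw [mul_pow, ← mul_assoc, ← pow_succ]
    congr 3
    omega
  rw [h4, h3, mul_neg, Finset.mul_sum, ← Finset.sum_neg_distrib]
  refine Finset.sum_congr rfl fun j hj => ?_
  rw [Finset.mem_range] at hj
  rw [map_neg, map_mul, map_pow, mul_pow, neg_mul]
  congr 1
  have h5 : aeval x F.leadingCoeff ^ (F.natDegree - 1) =
      aeval x F.leadingCoeff ^ (F.natDegree - 1 - j) * aeval x F.leadingCoeff ^ j := by
    rw [← pow_add]; congr 1; omega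
  rw [h5]
  ring

end K466.PCFun
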