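import Groth.Agent.Zeta.K466.PCCount
import Groth.Agent.Zeta.K466.PCConst
import Groth.Agent.MiscA.WCMain
import Groth.Agent.Cohder.HWMain
import Mathlib.Algebra.Polynomial.Expand

/-!
# The number of points of an affine plane curve over a finite field

* `exists_mod`: the function field of a geometrically irreducible plane curve;
* `abs_N_sub_card_le`: the number of points and the number of places of degree one;
* `main`: the estimate `|#F(k) - q| ≤ C √q`, for polynomials in `k[X][Y]`.
-/

set_option autoImplicit false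
open WithZero Polynomial
open scoped Polynomial.Bivariate

namespace K466.PCMain

open Groth.Agent.MiscA.WCPlace Groth.Agent.MiscA.WCPlaceCrv Groth.Agent.MiscA.WCPlaceRes
  Groth.Agent.Models.FFRR K466.PCFun K466.PCDeg K466.PCPole K466.PCPlace K466.PCCount K466.PCConst

universe u v

section exists_mod

variable {k : Type u} [Field k]

theorem irreducible_of_bc {F : k[X][Y]} (hF : Irreducible (bc k F)) : Irreducible F := by
  have hu : ∀ A : k[X][Y], IsUnit (bc k A) → IsUnit A := by
    intro A hA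
    rw [isUnit_iff_dvd_one]
    apply dvd_of_bc_dvd
    rw [map_one]
    exact hA.dvd
  constructor
  · intro h
    exact hF.not_isUnit (h.map (bc k))
  · intro A B hAB
    rw [hAB, map_mul] at hF
    rcases hF.isUnit_or_isUnit rfl with h | h
    · exact Or.inl (hu _ h)
    · exact Or.inr (hu _ h)

theorem exists_field_alg {B : Type u} [CommRing B] [Algebra k B] (I : Ideal B) [I.IsPrime] :
    ∃ (K : Type u) (_ : Field K) (_ : Algebra k K) (π : B →ₐ[k] K), (∀ p, π p = 0 ↔ p ∈ I) ∧
      ∀ z : K, ∃ p q : B, π q ≠ 0 ∧ z = π p / π q := by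
  refine ⟨FractionRing (B ⧸ I), inferInstance, inferInstance,
    (IsScalarTower.toAlgHom k (B ⧸ I) (FractionRing (B ⧸ I))).comp (Ideal.Quotient.mkₐ k I),
    fun p => ?_, fun z => ?_⟩
  · rw [AlgHom.comp_apply]
    change algebraMap (B ⧸ I) (FractionRing (B ⧸ I)) (Ideal.Quotient.mk I p) = 0 ↔ _
    rw [map_eq_zero_iff _ (IsFractionRing.injective _ _), Ideal.Quotient.eq_zero_iff_mem]
  · obtain ⟨a, b, hb, rfl⟩ := IsFractionRing.div_surjective (A := B ⧸ I) z
    obtain ⟨p, rfl⟩ := Ideal.Quotient.mk_surjective a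
    obtain ⟨q, rfl⟩ := Ideal.Quotient.mk_surjective b
    have h1 : algebraMap (B ⧸ I) (FractionRing (B ⧸ I)) (Ideal.Quotient.mk I q) ≠ 0 :=
      IsFractionRing.to_map_ne_zero_of_mem_nonZeroDivisors hb
    exact ⟨p, q, h1, rfl⟩

/-- The function field of an irreducible plane curve. -/
theorem exists_mod {F : k[X][Y]} (hF : Irreducible F) :
    ∃ (K : Type u) (_ : Field K) (_ : Algebra k K) (x y : K), Mod F x y := by
  have hprime : Prime F := hF.prime
  have hI : (Ideal.span {F}).IsPrime := (Ideal.span_singleton_prime hprime.ne_zero).mpr hprime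
  obtain ⟨K, _, _, π, h1, h2⟩ := exists_field_alg (k := k) (Ideal.span {F})
  have hxy : (aevalAeval (π (C X)) (π Y) : k[X][Y] →ₐ[k] K) = π := by
    ext
    · simp
    · simp
  refine ⟨K, inferInstance, inferInstance, π (C X), π Y, ?_, ?_⟩
  · intro p
    rw [hxy, h1, Ideal.mem_span_singleton]
  · rw [hxy]
    exact h2

end exists_mod

section bound

variable {k : Type u} {K : Type v} [Field k] [Field K] [Algebra k K] [Finite k]
variable {F : k[X][Y]} {x y : K}

/-- The number of points of the plane curve and the number of places of degree one. -/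
theorem abs_N_sub_card_le (hM : Mod F x y) (hn : 0 < F.natDegree) (h : IsSep k K x) {d : ℕ}
    (hdn : F.natDegree ≤ d) (hd : ∀ j, (F.coeff j).natDegree ≤ d) (hF : Irreducible (bc k F))
    (hF' : derivative F ≠ 0) :
    |(Groth.Agent.MiscA.ZetaAbsCount.N (crv ⟨x, h⟩).dg0 1 : ℝ) -
      Nat.card {z : k × k // F.evalEval z.1 z.2 = 0}| ≤ d + d ^ 2 + d ^ 3 := by
  have hne := nonempty_place ⟨x, h⟩
  have hl := l_zero_eq_one ⟨x, h⟩ (hM.const hF)
  have hfin : (S1 h).Finite :=
    Set.finite_coe_iff.1 (Groth.Agent.MiscA.ZetaCrv.finite_places (crv_fin ⟨x, h⟩) hl 1)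
  obtain ⟨h1, h2⟩ := card_le hM hn h hd hF' hfin
  rw [N_one h]
  have h3 : Nat.card {z : k × k // F.evalEval z.1 z.2 = 0} = (Z F).ncard := rfl
  rw [h3]
  have h4 : ((S1 h).ncard : ℝ) ≤ (Z F).ncard + (F.natDegree + d * F.natDegree +
    d * F.natDegree * F.natDegree) := by exact_mod_cast h1
  have h5 : ((Z F).ncard : ℝ) ≤ (S1 h).ncard + d * F.natDegree * F.natDegree := by exact_mod_cast h2
  have h6 : (F.natDegree : ℝ) ≤ d := by exact_mod_cast hdn
  have h7 : (0 : ℝ) ≤ F.natDegree := Nat.cast_nonneg _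
  have h8 : (d : ℝ) * F.natDegree ≤ d * d := by gcongr
  have h9 : (d : ℝ) * F.natDegree * F.natDegree ≤ d * d * d := by gcongr
  have h10 : (0 : ℝ) ≤ d * d := by positivity
  rw [abs_le]
  constructor <;> nlinarith

omit [Finite k] in
theorem deg_pole_pos (h : IsSep k K x) : 0 < (crv ⟨x, h⟩).deg (pole (crv ⟨x, h⟩) x) := by
  have hC : (crv ⟨x, h⟩).Fin := crv_fin ⟨x, h⟩
  have hex : ∃ P : Place k K, x ∉ P.1 := by
    by_contra hcon
    push Not at hcon
    exact h.tr (isAlgebraic_of_forall_mem hcon)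
  obtain ⟨P, hP⟩ := hex
  have h1 := ncard_poles_le (C := crv ⟨x, h⟩) hC h.ne_zero
  have h2 : P ∈ {P | 1 < (crv ⟨x, h⟩).v P x} := by
    rw [Set.mem_ofPred_eq, crv_v, ← not_le, h.val_le_one_iff]
    exact hP
  have h3 : 0 < {P | 1 < (crv ⟨x, h⟩).v P x}.ncard := (Set.ncard_pos h1.1).2 ⟨P, h2⟩
  have h4 : (0 : ℤ) < ({P | 1 < (crv ⟨x, h⟩).v P x}.ncard : ℕ) := by exact_mod_cast h3
  exact h4.trans_le h1.2

omit [Finite k] in
/-- The genus is bounded in terms of the degree. -/
theorem genus_bound (hM : Mod F x y) (hn : 0 < F.natDegree) (h : IsSep k K x) {d : ℕ}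
    (hdn : F.natDegree ≤ d) (hd : ∀ j, (F.coeff j).natDegree ≤ d) (hF : Irreducible (bc k F)) :
    (crv ⟨x, h⟩).i 0 ≤ d ^ 3 := by
  have hne := nonempty_place ⟨x, h⟩
  have hl := l_zero_eq_one ⟨x, h⟩ (hM.const hF)
  have h1 := genus_le (crv_fin ⟨x, h⟩) hl (x := x) (w := aeval x F.leadingCoeff * y)
    (pole (crv ⟨x, h⟩) x) (pole_nonneg x) (deg_pole_pos h) (mem_L_pole x) F.natDegree d hn
    (deg_pole_x hM hn h) (w_mem hM hn h hd) (hM.indep_mul (by
      rw [Ne, leadingCoeff_eq_zero]
      exact Mod.ne_zero hn))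
  calc _ ≤ d * F.natDegree * F.natDegree := h1
    _ ≤ d * d * d := by gcongr
    _ = d ^ 3 := by ring

theorem abs_N_sub_le (h : IsSep k K x) (hk : ∀ z : K, IsAlgebraic k z → z ∈ (algebraMap k K).range) :
    |(Groth.Agent.MiscA.ZetaAbsCount.N (crv ⟨x, h⟩).dg0 1 : ℝ) - (Nat.card k + 1)| ≤
      2 * (crv ⟨x, h⟩).i 0 * Real.sqrt (Nat.card k) := by
  obtain ⟨α, -, h2, -, h4⟩ := Groth.Agent.MiscA.WCMain.exists_alphas ⟨x, h⟩ hk
    (Groth.Agent.Cohder.HWMain.main hk ⟨x, h⟩) _ rfl
  have h5 := h4 1 le_rfl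
  simp only [pow_one] at h5
  have h7 : |(Groth.Agent.MiscA.ZetaAbsCount.N (crv ⟨x, h⟩).dg0 1 : ℝ) - (Nat.card k + 1)| =
      ‖((Groth.Agent.MiscA.ZetaAbsCount.N (crv ⟨x, h⟩).dg0 1 : ℂ) - (Nat.card k + 1))‖ := by
    have h8 : ((Groth.Agent.MiscA.ZetaAbsCount.N (crv ⟨x, h⟩).dg0 1 : ℂ) - (Nat.card k + 1)) =
      (((Groth.Agent.MiscA.ZetaAbsCount.N (crv ⟨x, h⟩).dg0 1 : ℝ) - (Nat.card k + 1) : ℝ) : ℂ) := by
      push_cast; rfl
    rw [h8, Complex.norm_real, Real.norm_eq_abs]
  rw [h7, h5]
  have h9 : (Nat.card k : ℂ) + 1 - ∑ i, α i - (Nat.card k + 1) = - ∑ i, α i := by ring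
  rw [h9, norm_neg]
  refine (norm_sum_le _ _).trans ?_
  have h10 : ∀ i, ‖α i‖ = Real.sqrt (Nat.card k) := by
    intro i
    rw [← h2 i, Real.sqrt_sq (norm_nonneg _)]
  simp only [h10, Finset.sum_const, Finset.card_univ, Fintype.card_fin, nsmul_eq_mul]
  push_cast
  exact le_rfl

/-- The case of a separable model. -/
theorem main_sep (F : k[X][Y]) {d : ℕ} (hn : 0 < F.natDegree)
    (hdn : F.natDegree ≤ d) (hd : ∀ j, (F.coeff j).natDegree ≤ d) (hF : Irreducible (bc k F))
    (hF' : derivative F ≠ 0) :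
    |(Nat.card {z : k × k // F.evalEval z.1 z.2 = 0} : ℝ) - Nat.card k| ≤
      (1 + d + d ^ 2 + 3 * d ^ 3) * Real.sqrt (Nat.card k) := by
  obtain ⟨K, _, _, x, y, hM⟩ := exists_mod (irreducible_of_bc hF)
  have h := hM.isSep hn hF'
  have h1 := abs_N_sub_card_le hM hn h hdn hd hF hF'
  have h2 := abs_N_sub_le h (hM.const hF)
  have h3 := genus_bound hM hn h hdn hd hF
  have h4 : ((crv ⟨x, h⟩).i 0 : ℝ) ≤ d ^ 3 := by exact_mod_cast h3
  have h5 : (1 : ℝ) ≤ Real.sqrt (Nat.card k) := by
    rw [Real.one_le_sqrt]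
    exact_mod_cast Nat.card_pos
  have h6 : 2 * ((crv ⟨x, h⟩).i 0 : ℝ) * Real.sqrt (Nat.card k) ≤ 2 * d ^ 3 * Real.sqrt (Nat.card k) := by
    gcongr
  have h7 : (d : ℝ) + d ^ 2 + d ^ 3 ≤ (d + d ^ 2 + d ^ 3) * Real.sqrt (Nat.card k) :=
    le_mul_of_one_le_right (by positivity) h5
  rw [abs_le] at h1 h2 ⊢
  constructor <;> nlinarith

end bound

section general

variable {k : Type u} [Field k] [Finite k]

omit [Finite k] in
theorem main_zero (F : k[X][Y]) (hn : F.natDegree = 0) (hF : Irreducible (bc k F)) :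
    Nat.card {z : k × k // F.evalEval z.1 z.2 = 0} = Nat.card k := by
  obtain ⟨c, rfl⟩ : ∃ c : k[X], F = C c := ⟨_, Polynomial.eq_C_of_natDegree_eq_zero hn⟩
  have h1 : bc k (C c) = C (c.map (algebraMap k (AlgebraicClosure k))) := by
    unfold bc
    rw [coe_mapRingHom, map_C, coe_mapRingHom]
  rw [h1] at hF
  have h2 : Irreducible (c.map (algebraMap k (AlgebraicClosure k))) := by
    constructor
    · intro hu
      exact hF.not_isUnit (hu.map C)
    · intro a b hab
      rw [hab, C_mul] at hF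
      rcases hF.isUnit_or_isUnit rfl with h | h
      · exact Or.inl (Polynomial.isUnit_C.1 h)
      · exact Or.inr (Polynomial.isUnit_C.1 h)
  have h3 : (c.map (algebraMap k (AlgebraicClosure k))).natDegree = 1 :=
    natDegree_eq_of_degree_eq_some (IsAlgClosed.degree_eq_one_of_irreducible _ h2)
  rw [natDegree_map] at h3
  obtain ⟨a, ha, b, rfl⟩ := Polynomial.natDegree_eq_one.1 h3
  have e : {z : k × k // (C (C a * X + C b) : k[X][Y]).evalEval z.1 z.2 = 0} ≃ k :=
    { toFun := fun z => z.1.2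
      invFun := fun y => ⟨(-b / a, y), by
        rw [evalEval_C]
        simp only [eval_add, eval_mul, eval_C, eval_X]
        field_simp
        ring⟩
      left_inv := by
        rintro ⟨⟨x, y⟩, hz⟩
        rw [evalEval_C] at hz
        simp only [eval_add, eval_mul, eval_C, eval_X] at hz
        ext
        · change -b / a = x
          field_simp
          linear_combination -hz
        · rfl
      right_inv := fun y => rfl }
  exact Nat.card_congr e

/-- **The number of points of a geometrically irreducible affine plane curve**. -/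
theorem main (d : ℕ) (n : ℕ) : ∀ (F : k[X][Y]), F.natDegree = n → F.natDegree ≤ d →
    (∀ j, (F.coeff j).natDegree ≤ d) → Irreducible (bc k F) →
    |(Nat.card {z : k × k // F.evalEval z.1 z.2 = 0} : ℝ) - Nat.card k| ≤
      (1 + d + d ^ 2 + 3 * d ^ 3) * Real.sqrt (Nat.card k) := by
  induction n using Nat.strong_induction_on with
  | _ n ih =>
  intro F hFn hdn hd hF
  rcases Nat.eq_zero_or_pos F.natDegree with h0 | hn
  · rw [main_zero F h0 hF, sub_self, abs_zero]
    positivity
  by_cases hF' : derivative F = 0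
  · obtain ⟨p, hp⟩ := CharP.exists k
    rcases CharP.char_is_prime_or_zero k p with hpp | rfl
    · have : Fact p.Prime := ⟨hpp⟩
      have hp0 : p ≠ 0 := hpp.ne_zero
      have h1 : expand k[X] p (contract p F) = F := expand_contract p hF' hp0
      set G := contract p F with hG
      have h2 : F.natDegree = G.natDegree * p := by
        rw [← h1, natDegree_expand]
      have hlt : G.natDegree < F.natDegree := by
        rw [h2]
        have hG0 : 0 < G.natDegree := by
          rcases Nat.eq_zero_or_pos G.natDegree with h | h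
          · rw [h, zero_mul] at h2; omega
          · exact h
        have := hpp.two_le
        nlinarith
      have h3 : bc k F = expand _ p (bc k G) := by
        unfold bc
        rw [← h1, coe_mapRingHom, map_expand]
      rw [h3] at hF
      have h4 := ih G.natDegree (by omega) G rfl (by omega) (fun j => by
        rw [hG, coeff_contract hp0]; exact hd _) (of_irreducible_expand hp0 hF)
      have : CharP k p := hp
      have : PerfectRing k p := inferInstance
      have e : {z : k × k // F.evalEval z.1 z.2 = 0} ≃ {z : k × k // G.evalEval z.1 z.2 = 0} := by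
        refine ((Equiv.refl k).prodCongr (frobeniusEquiv k p).toEquiv).subtypeEquiv ?_
        rintro ⟨a, b⟩
        change eval a (eval (C b) F) = 0 ↔ eval a (eval (C (b ^ p)) G) = 0
        rw [← h1, expand_eval, C_pow]
      rw [Nat.card_congr e]
      exact h4
    · exfalso
      have : CharZero k := CharP.charP_to_charZero k
      have : Infinite k := inferInstance
      exact not_finite k
  · exact main_sep F hn hdn hd hF hF'

end general

end K466.PCMain
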