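import Groth.Agent.Zeta.K466.PCFun
import Groth.Agent.MiscA.WCPlaceRes
import Mathlib.RingTheory.Valuation.LocalSubring

/-!
# Points of a plane curve and places of its function field

* `Cen P x y a b`: the place `P` is centered at the point `(a, b)`;
* `exists_cen`: every rational point is the center of a place;
* `cen_unique`, `dg0_of_cen`: above a point where `∂F/∂y ≠ 0` there is exactly one place, of degree one;
* `exists_cen_of_dg0`: places of degree one where `x, y` are regular have a center.
-/

set_option autoImplicit false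
open WithZero Polynomial
open scoped Polynomial.Bivariate

namespace K466.PCPlace

open Groth.Agent.MiscA.WCPlace Groth.Agent.MiscA.WCPlaceCrv Groth.Agent.MiscA.WCPlaceRes
  Groth.Agent.Models.FFRR K466.PCFun

universe u v

variable {k : Type u} {K : Type v} [Field k] [Field K] [Algebra k K]

/-- The place `P` is centered at the point `(a, b)`. -/
def Cen (P : Place k K) (x y : K) (a b : k) : Prop :=
  P.val (x - algebraMap k K a) < 1 ∧ P.val (y - algebraMap k K b) < 1

variable {F : k[X][Y]} {x y : K} {t : K}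

theorem val_const (h : IsSep k K t) (P : Place k K) (a : k) : P.val (algebraMap k K a) ≤ 1 :=
  (h.val_le_one_iff P _).2 (P.2.2 a)

theorem val_const_eq (h : IsSep k K t) (P : Place k K) {a : k} (ha : a ≠ 0) :
    P.val (algebraMap k K a) = 1 := by
  refine le_antisymm (val_const h P a) ?_
  have h1 := val_const h P a⁻¹
  rw [map_inv₀, map_inv₀] at h1
  have h2 : 0 < P.val (algebraMap k K a) := by
    rw [zero_lt_iff, Valuation.ne_zero_iff, Ne, map_eq_zero]
    exact ha
  exact (inv_le_one₀ h2).mp h1

theorem val_sub_lt (h : IsSep k K t) {P : Place k K} {a b : k} (hc : Cen P x y a b) (p : k[X][Y]) :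
    P.val (aevalAeval x y p - algebraMap k K (p.evalEval a b)) < 1 := by
  have hmul : ∀ f g : K, ∀ c d : k, P.val (f - algebraMap k K c) < 1 → P.val (g - algebraMap k K d) < 1 →
      P.val (f * g - algebraMap k K (c * d)) < 1 := by
    intro f g c d hf hg
    have hf1 : P.val f ≤ 1 := by
      have : f = (f - algebraMap k K c) + algebraMap k K c := by ring
      rw [this]
      exact (P.val.map_add _ _).trans (max_le hf.le (val_const h P c))
    have h1 : f * g - algebraMap k K (c * d) = f * (g - algebraMap k K d) + algebraMap k K d * (f - algebraMap k K c) := by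
      rw [map_mul]; ring
    rw [h1]
    refine lt_of_le_of_lt (P.val.map_add _ _) (max_lt ?_ ?_)
    · rw [map_mul]
      exact (mul_le_of_le_one_left' hf1).trans_lt hg
    · rw [map_mul]
      exact (mul_le_of_le_one_left' (val_const h P d)).trans_lt hf
  have hadd : ∀ f g : K, ∀ c d : k, P.val (f - algebraMap k K c) < 1 → P.val (g - algebraMap k K d) < 1 →
      P.val (f + g - algebraMap k K (c + d)) < 1 := by
    intro f g c d hf hg
    have h1 : f + g - algebraMap k K (c + d) = (f - algebraMap k K c) + (g - algebraMap k K d) := by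
      rw [map_add]; ring
    rw [h1]
    exact lt_of_le_of_lt (P.val.map_add _ _) (max_lt hf hg)
  have hpow : ∀ f : K, ∀ c : k, P.val (f - algebraMap k K c) < 1 → ∀ n : ℕ,
      P.val (f ^ n - algebraMap k K (c ^ n)) < 1 := by
    intro f c hf n
    induction n with
    | zero => simp
    | succ n ih => rw [pow_succ, pow_succ]; exact hmul _ _ _ _ ih hf
  have h1 : ∀ q : k[X], P.val (aeval x q - algebraMap k K (q.eval a)) < 1 := by
    intro q
    induction q using Polynomial.induction_on' with
    | add p q hp hq =>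
      rw [map_add, eval_add]
      exact hadd _ _ _ _ hp hq
    | monomial n c =>
      rw [aeval_monomial, eval_monomial]
      exact hmul _ _ _ _ (by simp) (hpow _ _ hc.1 n)
  induction p using Polynomial.induction_on' with
  | add p q hp hq =>
    rw [map_add, evalEval_add]
    exact hadd _ _ _ _ hp hq
  | monomial n c =>
    rw [← C_mul_X_pow_eq_monomial, map_mul, map_pow, aevalAeval_C, aevalAeval_Y, evalEval_mul,
      evalEval_pow, evalEval_C, evalEval_X]
    exact hmul _ _ _ _ (h1 c) (hpow _ _ hc.2 n)

theorem val_le_one_of_cen (h : IsSep k K t) {P : Place k K} {a b : k} (hc : Cen P x y a b) (p : k[X][Y]) :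
    P.val (aevalAeval x y p) ≤ 1 := by
  have h1 := val_sub_lt h hc p
  have h2 : aevalAeval x y p = (aevalAeval x y p - algebraMap k K (p.evalEval a b)) +
      algebraMap k K (p.evalEval a b) := by ring
  rw [h2]
  exact (P.val.map_add _ _).trans (max_le h1.le (val_const h P _))

theorem val_lt_one_iff (h : IsSep k K t) {P : Place k K} {a b : k} (hc : Cen P x y a b) (p : k[X][Y]) :
    P.val (aevalAeval x y p) < 1 ↔ p.evalEval a b = 0 := by
  have h1 := val_sub_lt h hc p
  constructor
  · intro h2
    by_contra hne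
    have h3 : algebraMap k K (p.evalEval a b) = aevalAeval x y p -
      (aevalAeval x y p - algebraMap k K (p.evalEval a b)) := by ring
    have h4 : P.val (algebraMap k K (p.evalEval a b)) < 1 := by
      rw [h3]
      exact lt_of_le_of_lt (P.val.map_sub _ _) (max_lt h2 h1)
    rw [val_const_eq h P hne] at h4
    exact lt_irrefl _ h4
  · intro h2
    rwa [h2, map_zero, sub_zero] at h1

theorem val_eq_one (h : IsSep k K t) {P : Place k K} {a b : k} (hc : Cen P x y a b) (p : k[X][Y])
    (hp : p.evalEval a b ≠ 0) : P.val (aevalAeval x y p) = 1 := by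
  refine le_antisymm (val_le_one_of_cen h hc p) ?_
  by_contra hlt
  push Not at hlt
  exact hp ((val_lt_one_iff h hc p).1 hlt)

theorem evalEval_eq_zero (hM : Mod F x y) (h : IsSep k K t) {P : Place k K} {a b : k}
    (hc : Cen P x y a b) : F.evalEval a b = 0 := by
  rw [← val_lt_one_iff h hc, (hM.dvd F).2 dvd_rfl, map_zero]
  exact zero_lt_one

theorem cen_point_unique (h : IsSep k K t) {P : Place k K} {a b a' b' : k} (hc : Cen P x y a b)
    (hc' : Cen P x y a' b') : a = a' ∧ b = b' := by
  have h1 : ∀ f : K, ∀ c c' : k, P.val (f - algebraMap k K c) < 1 → P.val (f - algebraMap k K c') < 1 → c = c' := by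
    intro f c c' h1 h2
    by_contra hne
    have h3 : P.val (algebraMap k K (c - c')) < 1 := by
      have : algebraMap k K (c - c') = (f - algebraMap k K c') - (f - algebraMap k K c) := by
        rw [map_sub]; ring
      rw [this]
      exact lt_of_le_of_lt (P.val.map_sub _ _) (max_lt h2 h1)
    rw [val_const_eq h P (sub_ne_zero.2 hne)] at h3
    exact lt_irrefl _ h3
  exact ⟨h1 _ _ _ hc.1 hc'.1, h1 _ _ _ hc.2 hc'.2⟩

/-- Every rational point is the center of a place. -/
theorem exists_cen (hM : Mod F x y) (hn : 0 < F.natDegree) (h : IsSep k K t) {a b : k}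
    (hF : F.evalEval a b = 0) : ∃ P : Place k K, Cen P x y a b := by
  let A : Subring K := (aevalAeval x y : k[X][Y] →ₐ[k] K).toRingHom.range
  let g : k[X][Y] →+* A := (aevalAeval x y : k[X][Y] →ₐ[k] K).toRingHom.rangeRestrict
  have hg : Function.Surjective g := RingHom.rangeRestrict_surjective _
  have hgv : ∀ p, ((g p : A) : K) = aevalAeval x y p := fun p => rfl
  let I : Ideal A := (RingHom.ker (evalEvalRingHom a b)).map g
  have hker : RingHom.ker g ≤ RingHom.ker (evalEvalRingHom a b) := by
    intro p hp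
    rw [RingHom.mem_ker] at hp ⊢
    have h1 : aevalAeval x y p = 0 := by
      rw [← hgv, hp]; rfl
    rw [hM.dvd] at h1
    obtain ⟨q, rfl⟩ := h1
    rw [map_mul]
    change F.evalEval a b * _ = 0
    rw [hF, zero_mul]
  have hI : I ≠ ⊤ := by
    rw [Ne, Ideal.eq_top_iff_one]
    intro h1
    rw [Ideal.mem_map_iff_of_surjective g hg] at h1
    obtain ⟨p, hp, hp1⟩ := h1
    have h2 : p - 1 ∈ RingHom.ker g := by
      rw [RingHom.mem_ker, map_sub, map_one, hp1, sub_self]
    have h3 := hker h2
    rw [RingHom.mem_ker] at hp h3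
    rw [map_sub, hp, map_one, zero_sub, neg_eq_zero] at h3
    exact one_ne_zero h3
  obtain ⟨V, hAV, hIV⟩ := Ideal.image_subset_nonunits_valuationSubring I hI
  have hnon : ∀ p : k[X][Y], p.evalEval a b = 0 → aevalAeval x y p ∈ V.nonunits := by
    intro p hp
    exact hIV ⟨g p, Ideal.mem_map_of_mem g hp, rfl⟩
  have hxa : (C (X - C a) : k[X][Y]).evalEval a b = 0 := by rw [evalEval_C]; simp
  have hyb : ((Y - C (C b)) : k[X][Y]).evalEval a b = 0 := by
    rw [evalEval_sub, evalEval_X, evalEval_C]
    simp
  have hVtop : V ≠ ⊤ := by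
    rintro rfl
    have h1 := hnon _ hxa
    rw [aevalAeval_C, map_sub, aeval_X, aeval_C] at h1
    have h2 : x - algebraMap k K a ≠ 0 := by
      intro h0
      apply hM.transcendental hn
      rw [sub_eq_zero] at h0
      rw [h0]
      exact isAlgebraic_algebraMap a
    have h3 := h1
    rw [ValuationSubring.mem_nonunits_iff_exists_mem_maximalIdeal] at h3
    obtain ⟨h4, h5⟩ := h3
    rw [IsLocalRing.mem_maximalIdeal, mem_nonunits_iff] at h5
    apply h5
    refine IsUnit.of_mul_eq_one (⟨(x - algebraMap k K a)⁻¹, ValuationSubring.mem_top _⟩ : (⊤ : ValuationSubring K)) ?_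
    apply Subtype.ext
    exact mul_inv_cancel₀ h2
  let P : Place k K := ⟨V, hVtop, fun c => hAV ⟨C (C c), by
    change aevalAeval x y (C (C c)) = _
    rw [aevalAeval_C, aeval_C]⟩⟩
  have hP : ∀ f : K, f ∈ V.nonunits → P.val f < 1 := by
    intro f hf
    rw [ValuationSubring.mem_nonunits_iff_exists_mem_maximalIdeal] at hf
    obtain ⟨h4, h5⟩ := hf
    exact (mem_maximalIdeal_iff h P ⟨f, h4⟩).1 h5
  refine ⟨P, ?_, ?_⟩
  · have h1 := hP _ (hnon _ hxa)
    rwa [aevalAeval_C, map_sub, aeval_X, aeval_C] at h1
  · have h1 := hP _ (hnon _ hyb)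
    rwa [map_sub, aevalAeval_C, aevalAeval_Y, aeval_C] at h1

/-- First order expansion. -/
theorem exists_taylor (a b : k) (p : k[X][Y]) : ∃ p1 p2 : k[X][Y],
    p = C (C (p.evalEval a b)) + C (X - C a) * p1 + (Y - C (C b)) * p2 := by
  obtain ⟨p2, hp2⟩ := X_sub_C_dvd_sub_C_eval (p := p) (a := C b)
  obtain ⟨p1, hp1⟩ := X_sub_C_dvd_sub_C_eval (p := p.eval (C b)) (a := a)
  refine ⟨C p1, p2, ?_⟩
  rw [← hp2, ← C_mul, ← hp1, C_sub]
  change p = C (C (eval a (eval (C b) p))) + _ + _
  ring

theorem evalEval_derivative (a b : k) (c : k) (p p1 p2 : k[X][Y])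
    (hp : p = C (C c) + C (X - C a) * p1 + (Y - C (C b)) * p2) :
    (derivative p).evalEval a b = p2.evalEval a b := by
  rw [hp]
  simp only [derivative_add, derivative_mul, derivative_C, derivative_sub, derivative_X, evalEval_add,
    evalEval_mul, evalEval_C, evalEval_sub, evalEval_X, evalEval_zero, evalEval_one, eval_sub, eval_X, eval_C]
  ring

/-- The local structure at a point where `∂F/∂y ≠ 0`. -/
theorem exists_repr_aux (hM : Mod F x y) (h : IsSep k K t) {a b : k} (hF : F.evalEval a b = 0)
    (hF' : (derivative F).evalEval a b ≠ 0) {P : Place k K} (hc : Cen P x y a b) (n : ℕ) :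
    ∀ p : k[X][Y], exp (-(n : ℤ)) ≤ P.val (aevalAeval x y p) →
      ∃ (m : ℕ) (r s : k[X][Y]), r.evalEval a b ≠ 0 ∧ s.evalEval a b ≠ 0 ∧
        aevalAeval x y p = (x - algebraMap k K a) ^ m * (aevalAeval x y r / aevalAeval x y s) := by
  obtain ⟨F1, F2, hF12⟩ := exists_taylor a b F
  have hF2 : F2.evalEval a b ≠ 0 := by
    rwa [← evalEval_derivative a b _ F F1 F2 hF12]
  have hval : ∀ q : k[X][Y], q.evalEval a b ≠ 0 → aevalAeval x y q ≠ 0 := by
    intro q hq h0
    have := val_eq_one h hc q hq
    rw [h0, map_zero] at this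
    exact zero_ne_one this
  have hrel : (x - algebraMap k K a) * aevalAeval x y F1 + (y - algebraMap k K b) * aevalAeval x y F2 = 0 := by
    have h1 : aevalAeval x y F = 0 := (hM.dvd F).2 dvd_rfl
    rw [hF12, hF] at h1
    simpa [aevalAeval_C] using h1
  induction n with
  | zero =>
    intro p hp
    by_cases hp0 : p.evalEval a b = 0
    · exfalso
      have := (val_lt_one_iff h hc p).2 hp0
      simp only [Nat.cast_zero, neg_zero, exp_zero] at hp
      exact absurd this (not_lt.2 hp)
    · exact ⟨0, p, 1, hp0, by simp, by simp⟩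
  | succ n ih =>
    intro p hp
    by_cases hp0 : p.evalEval a b = 0
    · obtain ⟨p1, p2, hp12⟩ := exists_taylor a b p
      have h1 : aevalAeval x y p = (x - algebraMap k K a) * aevalAeval x y p1 +
          (y - algebraMap k K b) * aevalAeval x y p2 := by
        conv_lhs => rw [hp12, hp0]
        simp [aevalAeval_C]
      have h2 : aevalAeval x y p * aevalAeval x y F2 =
          (x - algebraMap k K a) * aevalAeval x y (p1 * F2 - p2 * F1) := by
        rw [h1, map_sub, map_mul, map_mul]
        linear_combination (aevalAeval x y p2) * hrel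
      have hx : P.val (x - algebraMap k K a) ≤ exp (-1 : ℤ) := by
        by_cases h0 : P.val (x - algebraMap k K a) = 0
        · rw [h0]; exact zero_le
        · have h3 := hc.1
          rw [← exp_log h0, ← exp_zero, exp_lt_exp] at h3
          rw [← exp_log h0, exp_le_exp]
          omega
      have h4 : exp (-(n : ℤ)) ≤ P.val (aevalAeval x y (p1 * F2 - p2 * F1)) := by
        have h5 := congrArg P.val h2
        rw [map_mul, map_mul, val_eq_one h hc F2 hF2, mul_one] at h5
        rw [h5] at hp
        have h6 : exp (-((n + 1 : ℕ) : ℤ)) ≤ exp (-1 : ℤ) * P.val (aevalAeval x y (p1 * F2 - p2 * F1)) := by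
          refine hp.trans ?_
          gcongr
        by_cases h0 : P.val (aevalAeval x y (p1 * F2 - p2 * F1)) = 0
        · rw [h0, mul_zero] at h6
          exact absurd h6 (not_le.2 exp_pos)
        · rw [← exp_log h0, ← exp_add, exp_le_exp] at h6
          rw [← exp_log h0, exp_le_exp]
          push_cast at h6
          omega
      obtain ⟨m, r, s, hr, hs, hrs⟩ := ih _ h4
      refine ⟨m + 1, r, s * F2, hr, ?_, ?_⟩
      · rw [evalEval_mul]
        exact mul_ne_zero hs hF2
      · have h6 := hval F2 hF2
        have h7 := hval s hs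
        rw [hrs] at h2
        rw [map_mul, pow_succ']
        field_simp
        field_simp at h2
        linear_combination h2
    · exact ⟨0, p, 1, hp0, by simp, by simp⟩

theorem val_exp_neg (P : Place k K) {f : K} (h0 : f ≠ 0) (h1 : P.val f ≤ 1) :
    ∃ n : ℕ, exp (-(n : ℤ)) ≤ P.val f := by
  have h2 : P.val f ≠ 0 := (Valuation.ne_zero_iff _).2 h0
  refine ⟨(-(log (P.val f))).toNat, ?_⟩
  rw [← exp_log h2, ← exp_zero, exp_le_exp] at h1
  conv_rhs => rw [← exp_log h2]
  rw [exp_le_exp]
  omega

/-- Every nonzero function is a power of `x - a` times a quotient of functions not vanishing at `(a, b)`. -/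
theorem exists_repr (hM : Mod F x y) (hn : 0 < F.natDegree) (h : IsSep k K t) {a b : k} (hF : F.evalEval a b = 0)
    (hF' : (derivative F).evalEval a b ≠ 0) {P : Place k K} (hc : Cen P x y a b) (z : K) (hz : z ≠ 0) :
    ∃ (m : ℤ) (r s : k[X][Y]), r.evalEval a b ≠ 0 ∧ s.evalEval a b ≠ 0 ∧
        z = (x - algebraMap k K a) ^ m * (aevalAeval x y r / aevalAeval x y s) := by
  have hval : ∀ q : k[X][Y], q.evalEval a b ≠ 0 → aevalAeval x y q ≠ 0 := by
    intro q hq h0
    have := val_eq_one h hc q hq
    rw [h0, map_zero] at this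
    exact zero_ne_one this
  obtain ⟨p, q, hq, rfl⟩ := hM.frac z
  have hp : aevalAeval x y p ≠ 0 := by
    intro h0
    rw [h0, zero_div] at hz
    exact hz rfl
  obtain ⟨n1, h1⟩ := val_exp_neg P hp (val_le_one_of_cen h hc p)
  obtain ⟨n2, h2⟩ := val_exp_neg P hq (val_le_one_of_cen h hc q)
  obtain ⟨m1, r1, s1, hr1, hs1, hrs1⟩ := exists_repr_aux hM h hF hF' hc n1 p h1
  obtain ⟨m2, r2, s2, hr2, hs2, hrs2⟩ := exists_repr_aux hM h hF hF' hc n2 q h2
  refine ⟨(m1 : ℤ) - m2, r1 * s2, s1 * r2, ?_, ?_, ?_⟩
  · rw [evalEval_mul]; exact mul_ne_zero hr1 hs2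
  · rw [evalEval_mul]; exact mul_ne_zero hs1 hr2
  · have hx : x - algebraMap k K a ≠ 0 := by
      intro h0
      apply hM.transcendental hn
      rw [sub_eq_zero] at h0
      rw [h0]
      exact isAlgebraic_algebraMap a
    rw [hrs1, hrs2, zpow_sub₀ hx, zpow_natCast, zpow_natCast, map_mul, map_mul]
    have := hval _ hr1
    have := hval _ hr2
    have := hval _ hs1
    have := hval _ hs2
    field_simp

theorem mem_iff_of_repr (h : IsSep k K t) {a b : k} {P : Place k K} (hc : Cen P x y a b)
    (hx : x - algebraMap k K a ≠ 0) {z : K}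
    {m : ℤ} {r s : k[X][Y]} (hr : r.evalEval a b ≠ 0) (hs : s.evalEval a b ≠ 0)
    (hz : z = (x - algebraMap k K a) ^ m * (aevalAeval x y r / aevalAeval x y s)) :
    z ∈ P.1 ↔ 0 ≤ m := by
  rw [← h.val_le_one_iff, hz, map_mul, map_div₀, val_eq_one h hc r hr, val_eq_one h hc s hs, div_one, mul_one,
    map_zpow₀]
  have h1 := hc.1
  have h2 : P.val (x - algebraMap k K a) ≠ 0 := (Valuation.ne_zero_iff _).2 hx
  have h3 : 0 < P.val (x - algebraMap k K a) := zero_lt_iff.2 h2
  constructor
  · intro h4
    by_contra h5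
    push Not at h5
    have : 1 < P.val (x - algebraMap k K a) ^ m := one_lt_zpow_of_neg₀ h3 h1 h5
    exact absurd h4 (not_le.2 this)
  · intro h4
    lift m to ℕ using h4
    rw [zpow_natCast]
    exact pow_le_one' h1.le m

/-- Above a point with `∂F/∂y ≠ 0` there is at most one place. -/
theorem cen_unique (hM : Mod F x y) (hn : 0 < F.natDegree) (h : IsSep k K t) {a b : k}
    (hF' : (derivative F).evalEval a b ≠ 0) {P Q : Place k K} (hP : Cen P x y a b)
    (hQ : Cen Q x y a b) : P = Q := by
  have hF := evalEval_eq_zero hM h hP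
  have hx : x - algebraMap k K a ≠ 0 := by
    intro h0
    apply hM.transcendental hn
    rw [sub_eq_zero] at h0
    rw [h0]
    exact isAlgebraic_algebraMap a
  apply Place.ext
  ext z
  by_cases hz : z = 0
  · rw [hz]
    exact ⟨fun _ => Q.1.zero_mem, fun _ => P.1.zero_mem⟩
  · obtain ⟨m, r, s, hr, hs, hrs⟩ := exists_repr hM hn h hF hF' hP z hz
    rw [mem_iff_of_repr h hP hx hr hs hrs, mem_iff_of_repr h hQ hx hr hs hrs]

/-- The place above a point with `∂F/∂y ≠ 0` has degree one. -/
theorem dg0_of_cen (hM : Mod F x y) (hn : 0 < F.natDegree) (h : IsSep k K t) {a b : k}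
    (hF' : (derivative F).evalEval a b ≠ 0) {P : Place k K} (hP : Cen P x y a b) :
    (crv ⟨t, h⟩).dg0 P = 1 := by
  have hF := evalEval_eq_zero hM h hP
  have hx : x - algebraMap k K a ≠ 0 := by
    intro h0
    apply hM.transcendental hn
    rw [sub_eq_zero] at h0
    rw [h0]
    exact isAlgebraic_algebraMap a
  rw [dg0_eq_finrank]
  rw [finrank_eq_one_iff_of_nonzero' (1 : IsLocalRing.ResidueField P.1) one_ne_zero]
  intro w
  obtain ⟨z, rfl⟩ := IsLocalRing.residue_surjective w
  have key : ∃ c : k, P.val ((z : K) - algebraMap k K c) < 1 := by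
    by_cases hz : (z : K) = 0
    · exact ⟨0, by rw [hz, map_zero, sub_zero, map_zero]; exact zero_lt_one⟩
    · obtain ⟨m, r, s, hr, hs, hrs⟩ := exists_repr hM hn h hF hF' hP z hz
      have hm := (mem_iff_of_repr h hP hx hr hs hrs).1 z.2
      have hr1 := val_eq_one h hP r hr
      have hs1 := val_eq_one h hP s hs
      rcases hm.lt_or_eq with hm | hm
      · refine ⟨0, ?_⟩
        rw [map_zero, sub_zero, hrs, map_mul, map_div₀, hr1, hs1, div_one, mul_one, map_zpow₀]
        lift m to ℕ using hm.le
        rw [zpow_natCast]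
        exact pow_lt_one' hP.1 (by omega)
      · refine ⟨r.evalEval a b / s.evalEval a b, ?_⟩
        have hs0 : aevalAeval x y s ≠ 0 := by
          intro h0
          rw [h0, map_zero] at hs1
          exact zero_ne_one hs1
        have hs2 : algebraMap k K (s.evalEval a b) ≠ 0 := by
          rw [Ne, map_eq_zero]; exact hs
        have h1 : (z : K) - algebraMap k K (r.evalEval a b / s.evalEval a b) =
            ((aevalAeval x y r - algebraMap k K (r.evalEval a b)) * algebraMap k K (s.evalEval a b) -
              algebraMap k K (r.evalEval a b) * (aevalAeval x y s - algebraMap k K (s.evalEval a b))) /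
              (aevalAeval x y s * algebraMap k K (s.evalEval a b)) := by
          rw [hrs, ← hm, zpow_zero, one_mul, map_div₀]
          field_simp
          ring
        rw [h1, map_div₀, map_mul, hs1, val_const_eq h P hs, mul_one, div_one]
        refine lt_of_le_of_lt (P.val.map_sub _ _) (max_lt ?_ ?_)
        · rw [map_mul]
          exact (mul_le_of_le_one_right' (val_const h P _)).trans_lt (val_sub_lt h hP r)
        · rw [map_mul]
          exact (mul_le_of_le_one_left' (val_const h P _)).trans_lt (val_sub_lt h hP s)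
  obtain ⟨c, hc⟩ := key
  refine ⟨c, ?_⟩
  rw [Algebra.smul_def, mul_one, eq_comm, IsScalarTower.algebraMap_apply k P.1,
    IsLocalRing.ResidueField.algebraMap_eq, ← sub_eq_zero, ← map_sub, IsLocalRing.residue_eq_zero_iff,
    mem_maximalIdeal_iff h]
  exact hc

/-- A place of degree one where `x` and `y` are regular has a center. -/
theorem exists_cen_of_dg0 (h : IsSep k K t) {P : Place k K} (hx : x ∈ P.1) (hy : y ∈ P.1)
    (hdg : (crv ⟨t, h⟩).dg0 P = 1) : ∃ a b : k, Cen P x y a b := by
  rw [dg0_eq_finrank, finrank_eq_one_iff_of_nonzero' (1 : IsLocalRing.ResidueField P.1) one_ne_zero] at hdg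
  have key : ∀ z : P.1, ∃ c : k, P.val ((z : K) - algebraMap k K c) < 1 := by
    intro z
    obtain ⟨c, hc⟩ := hdg (IsLocalRing.residue P.1 z)
    refine ⟨c, ?_⟩
    rw [Algebra.smul_def, mul_one, eq_comm, IsScalarTower.algebraMap_apply k P.1,
      IsLocalRing.ResidueField.algebraMap_eq, ← sub_eq_zero, ← map_sub, IsLocalRing.residue_eq_zero_iff,
      mem_maximalIdeal_iff h] at hc
    exact hc
  obtain ⟨a, ha⟩ := key ⟨x, hx⟩
  obtain ⟨b, hb⟩ := key ⟨y, hy⟩
  exact ⟨a, b, ha, hb⟩

end K466.PCPlace
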