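import Groth.Agent.Zeta.K466.PicVal
import Groth.Agent.MiscA.ZetaCrv
import Groth.Agent.CycB.DegCurve
import Groth.Agent.CycB.SetupLft

/-!
# Invertible modules on a smooth proper curve and divisors of the function field

`IsDiv L D`: `D` is the divisor of a rational section of `L`.
* `exists_isDiv`, `exists_of_isDiv`: existence of divisors and modules;
* `iso_of_sub_mem`, `sub_mem_of_iso`: modules are isomorphic iff the divisors are linearly equivalent;
* `deg_eq`: degrees.
-/

set_option autoImplicit false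
universe u
open CategoryTheory AlgebraicGeometry WithZero TopologicalSpace

namespace K466.PicDiv

open Groth.Agent.MiscA Groth.Agent.MiscA.WCPlace Groth.Agent.MiscA.WCPlaceCrv
  Groth.Agent.MiscA.WCBridge Groth.Agent.MiscA.CurvePlaces
open Groth.Agent.Lefpen.H725.CocDef Groth.Agent.Lefpen.H521.CartierCoc K466.PicVal
open Groth.Agent.Fdesc.LocGen

section transport

variable {X : Scheme.{u}} [IsIntegral X]

theorem hasCoc_of_iso {L M : X.Modules} (φ : L ≅ M) {a : X → X.functionField} (h : HasCoc L a) :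
    HasCoc M a := by
  obtain ⟨h0, U, hU, e, he, h⟩ := h
  refine ⟨h0, U, hU, fun x => φ.hom.app (U x) (e x), fun x => (he x).app φ.hom, fun x y => ?_⟩
  obtain ⟨g, hη, hg, ha⟩ := h x y
  refine ⟨g, hη, ?_, ha⟩
  have h1 := congrArg (φ.hom.app (U x ⊓ U y)) hg
  rw [app_res, Scheme.Modules.Hom.app_smul, app_res] at h1
  exact h1

/-- Two cocycles of the same module differ by a rational function. -/
theorem exists_of_hasCoc {L : X.Modules} {a b : X → X.functionField} (ha : HasCoc L a)
    (hb : HasCoc L b) : ∃ c : X.functionField, c ≠ 0 ∧ ∀ x, UnitAt x (c * a x / b x) := by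
  obtain ⟨v, hv, hv'⟩ := K172.CocOrd.exists_base ha
  obtain ⟨w, hw, hw'⟩ := K172.CocOrd.exists_base hb
  obtain ⟨c, hc⟩ := hw.exists_unit_smul hv
  have hc0 : (show X.functionField from (c : X.presheaf.stalk (genericPoint X))) ≠ 0 :=
    IsUnit.ne_zero (M₀ := X.functionField) c.isUnit
  refine ⟨(c : X.presheaf.stalk (genericPoint X)), hc0, fun x => ?_⟩
  obtain ⟨t, ht, ht2⟩ := hv' x
  obtain ⟨t', ht', ht2'⟩ := hw' x
  obtain ⟨u, hu⟩ := ht'.exists_unit_smul ht
  have h1 : L.presheaf.stalkSpecializes (genericPoint_specializes x) t =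
      (X.presheaf.stalkSpecializes (genericPoint_specializes x) (u : X.presheaf.stalk x)) •
        L.presheaf.stalkSpecializes (genericPoint_specializes x) t' := by
    rw [hu, Units.smul_def]
    exact Groth.Agent.CycB.ModStalk.stalkSpecializes_smul (genericPoint_specializes x) _ _
  rw [ht2, ht2', hc, Units.smul_def, ← mul_smul, ← mul_smul] at h1
  have h2 := hw.1 h1
  have h3 : (show X.functionField from (c : X.presheaf.stalk (genericPoint X))) * a x / b x =
      algebraMap (X.presheaf.stalk x) X.functionField (u : X.presheaf.stalk x) := by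
    rw [div_eq_iff (hb.1 x), mul_comm _ (a x)]
    exact h2
  change UnitAt x ((show X.functionField from (c : X.presheaf.stalk (genericPoint X))) * a x / b x)
  rw [h3]
  exact K172.CocOrd.unitAt_of_isUnit u.isUnit

end transport

variable {k : Type u} [Field k] {C : Scheme.{u}} [IsIntegral C] (f : C ⟶ Spec (CommRingCat.of k))
  [Algebra k C.functionField]
  (hk : genericPt C ≫ f = Spec.map (CommRingCat.ofHom (algebraMap k C.functionField)))
  [IsProper f] [Smooth f] (hdim : topologicalKrullDim C = 1)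

/-- `D` is the divisor of a rational section of `L`. -/
def IsDiv (L : C.Modules) (D : Place k C.functionField →₀ ℤ) : Prop :=
  ∃ a : C → C.functionField, HasCoc L a ∧ ∀ x : {x : C // IsClosed ({x} : Set C)},
    (placeOf f hk hdim x).val (a x.1) = exp (D (placeOf f hk hdim x))

include hdim in
theorem isClosed_or (x : C) : IsClosed ({x} : Set C) ∨ x = genericPoint C := by
  by_cases hx : x = genericPoint C
  · exact Or.inr hx
  · exact Or.inl (Groth.Agent.Picfga.CurvePts.isClosed_singleton_of_dim_le_one hdim.le hx)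

variable (h : ∃ t : C.functionField, IsSep k C.functionField t)

theorem v_eq (P : Place k C.functionField) {u : C.functionField} (hu : u ≠ 0) :
    P.val u = exp (-((crv h).div u P)) := (crv h).v_eq_exp hu P

include h hdim in
theorem unitAt_of_val {x : C} {u : C.functionField} (hu : u ≠ 0)
    (H : ∀ hx : IsClosed ({x} : Set C), (placeOf f hk hdim ⟨x, hx⟩).val u = 1) : UnitAt x u := by
  obtain ⟨t, ht⟩ := h
  rcases isClosed_or hdim x with hx | rfl
  · exact (unitAt_iff_val f hk hdim ht ⟨x, hx⟩ u).2 (H hx)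
  · exact unitAt_generic hu

include h in
/-- A divisor comes from a cocycle. -/
theorem exists_coc (D : Place k C.functionField →₀ ℤ) :
    ∃ a : C → C.functionField, (∀ x, a x ≠ 0) ∧ (∀ x : {x : C // IsClosed ({x} : Set C)},
      (placeOf f hk hdim x).val (a x.1) = exp (D (placeOf f hk hdim x))) ∧
      ∀ x, ∃ U : C.Opens, x ∈ U ∧ ∀ y ∈ U, UnitAt y (a x / a y) := by
  classical
  obtain ⟨t, ht⟩ := id h
  choose τ hτ using fun x : {x : C // IsClosed ({x} : Set C)} =>
    ht.exists_val_eq (placeOf f hk hdim x) (D (placeOf f hk hdim x))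
  have hτ0 : ∀ x, τ x ≠ 0 := by
    intro x h0
    have := hτ x
    rw [h0, map_zero] at this
    exact exp_pos.ne this
  let a : C → C.functionField := fun x => if hx : IsClosed ({x} : Set C) then τ ⟨x, hx⟩ else 1
  have ha0 : ∀ x, a x ≠ 0 := by
    intro x
    change (if hx : IsClosed ({x} : Set C) then τ ⟨x, hx⟩ else 1) ≠ 0
    split_ifs with hx
    · exact hτ0 _
    · exact one_ne_zero
  have ha : ∀ x : {x : C // IsClosed ({x} : Set C)},
      (placeOf f hk hdim x).val (a x.1) = exp (D (placeOf f hk hdim x)) := by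
    intro x
    have : a x.1 = τ x := dif_pos x.2
    rw [this, hτ]
  refine ⟨a, ha0, ha, fun x => ?_⟩
  -- the bad set
  let B : Set (Place k C.functionField) := {P | D P ≠ 0 ∨ (crv h).div (a x) P ≠ 0}
  have hB : B.Finite := by
    refine ((D.support.finite_toSet).union ((crv h).div (a x)).support.finite_toSet).subset ?_
    intro P hP
    rcases hP with hP | hP
    · exact Or.inl (by simpa using hP)
    · exact Or.inr (by simpa using hP)
  let S : Set C := (fun P => ((placeEquiv f hk hdim).symm P).1) '' B \ {x}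
  have hS : S.Finite := (hB.image _).subset Set.sdiff_subset
  have hScl : IsClosed S := by
    have : S = ⋃ y ∈ S, {y} := by simp
    rw [this]
    refine hS.isClosed_biUnion fun y hy => ?_
    obtain ⟨⟨P, -, rfl⟩, -⟩ := hy
    exact ((placeEquiv f hk hdim).symm P).2
  refine ⟨⟨Sᶜ, hScl.isOpen_compl⟩, fun hx => hx.2 rfl, fun y hy => ?_⟩
  by_cases hyx : y = x
  · subst hyx
    rw [div_self (ha0 y)]
    refine unitAt_of_val f hk hdim h one_ne_zero fun _ => map_one _
  refine unitAt_of_val f hk hdim h (div_ne_zero (ha0 x) (ha0 y)) fun hyc => ?_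
  have hP : placeOf f hk hdim ⟨y, hyc⟩ ∉ B := by
    intro hP
    refine hy ⟨⟨_, hP, ?_⟩, hyx⟩
    exact congrArg Subtype.val ((placeEquiv f hk hdim).symm_apply_apply ⟨y, hyc⟩)
  have hP' : ¬ (D (placeOf f hk hdim ⟨y, hyc⟩) ≠ 0 ∨
      (crv h).div (a x) (placeOf f hk hdim ⟨y, hyc⟩) ≠ 0) := hP
  push Not at hP'
  rw [map_div₀, ha ⟨y, hyc⟩, hP'.1, v_eq h _ (ha0 x), hP'.2, neg_zero, div_self]
  exact exp_pos.ne'

include h in
theorem exists_of_isDiv (D : Place k C.functionField →₀ ℤ) :
    ∃ L : C.Modules, PicF.IsInvertible L ∧ IsDiv f hk hdim L D := by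
  obtain ⟨a, ha0, ha, hloc⟩ := exists_coc f hk hdim h D
  obtain ⟨L, hL, hLa⟩ := exists_of_loc a ha0 hloc
  exact ⟨L, hL, a, hLa, ha⟩

include h in
theorem exists_isDiv {L : C.Modules} (hL : PicF.IsInvertible L) :
    ∃ D : Place k C.functionField →₀ ℤ, IsDiv f hk hdim L D := by
  classical
  obtain ⟨t, ht⟩ := id h
  obtain ⟨a, ha⟩ := exists_hasCoc hL
  have : CompactSpace C := QuasiCompact.compactSpace_of_compactSpace f
  choose U hxU hU using hasCoc_loc ha
  obtain ⟨T, hT⟩ := isCompact_univ.elim_finite_subcover (fun x => (U x : Set C)) (fun x => (U x).2)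
    (fun x _ => Set.mem_iUnion.2 ⟨x, hxU x⟩)
  let pt : Place k C.functionField → C := fun P => ((placeEquiv f hk hdim).symm P).1
  have hfin : (Function.support fun P => -((crv h).div (a (pt P)) P)).Finite := by
    refine (Set.Finite.biUnion T.finite_toSet
      (fun x _ => ((crv h).div (a x)).support.finite_toSet)).subset ?_
    intro P hP
    obtain ⟨x, hxT, hx⟩ := Set.mem_iUnion₂.1 (hT (Set.mem_univ (pt P)))
    refine Set.mem_iUnion₂.2 ⟨x, hxT, ?_⟩
    rw [Finset.mem_coe, Finsupp.mem_support_iff]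
    have h1 := hU x (pt P) hx
    have h2 := (unitAt_iff_val f hk hdim ht ((placeEquiv f hk hdim).symm P) _).1 h1
    have h3 : placeOf f hk hdim ((placeEquiv f hk hdim).symm P) = P :=
      (placeEquiv f hk hdim).apply_symm_apply P
    rw [h3, map_div₀, v_eq h _ (ha.1 x), v_eq h _ (ha.1 _), ← exp_sub, ← exp_zero, exp_inj] at h2
    rw [Function.mem_support] at hP
    intro h4
    rw [h4] at h2
    omega
  refine ⟨Finsupp.ofSupportFinite _ hfin, a, ha, fun x => ?_⟩
  rw [v_eq h _ (ha.1 x.1)]
  congr 1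
  change _ = -((crv h).div (a (pt (placeOf f hk hdim x))) (placeOf f hk hdim x))
  have h3 : pt (placeOf f hk hdim x) = x.1 :=
    congrArg Subtype.val ((placeEquiv f hk hdim).symm_apply_apply x)
  rw [h3]

include h in
theorem iso_of_sub_mem {L M : C.Modules} {D E : Place k C.functionField →₀ ℤ}
    (hL : IsDiv f hk hdim L D) (hM : IsDiv f hk hdim M E) (hDE : D - E ∈ ZetaCrv.prin (crv h)) :
    Nonempty (L ≅ M) := by
  obtain ⟨a, ha, ha'⟩ := hL
  obtain ⟨b, hb, hb'⟩ := hM
  obtain ⟨c, hc0, hc⟩ := hDE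
  refine hasCoc_iso ha hb c hc0 fun x => ?_
  refine unitAt_of_val f hk hdim h (div_ne_zero (mul_ne_zero hc0 (ha.1 x)) (hb.1 x)) fun hx => ?_
  rw [map_div₀, map_mul, ha' ⟨x, hx⟩, hb' ⟨x, hx⟩, v_eq h _ hc0, hc, ← exp_add, ← exp_sub, ← exp_zero]
  congr 1
  rw [Finsupp.sub_apply]
  ring

include h in
theorem sub_mem_of_iso {L M : C.Modules} {D E : Place k C.functionField →₀ ℤ}
    (hL : IsDiv f hk hdim L D) (hM : IsDiv f hk hdim M E) (φ : L ≅ M) :
    D - E ∈ ZetaCrv.prin (crv h) := by
  obtain ⟨t, ht⟩ := id h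
  obtain ⟨a, ha, ha'⟩ := hL
  obtain ⟨b, hb, hb'⟩ := hM
  obtain ⟨c, hc0, hc⟩ := exists_of_hasCoc (hasCoc_of_iso φ ha) hb
  refine ⟨c, hc0, ?_⟩
  ext P
  obtain ⟨x, rfl⟩ := (placeEquiv f hk hdim).surjective P
  change (crv h).div c (placeOf f hk hdim x) = D (placeOf f hk hdim x) - E (placeOf f hk hdim x)
  have h1 := (unitAt_iff_val f hk hdim ht x _).1 (hc x.1)
  rw [map_div₀, map_mul, ha' x, hb' x, v_eq h _ hc0, ← exp_add, ← exp_sub, ← exp_zero, exp_inj] at h1
  omega

end K466.PicDiv
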