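import Groth.Agent.MiscA.WCBridge
import Groth.Agent.MiscA.WCPlaceCrv
import Groth.Agent.MiscA.CurveH1E
import Groth.Agent.Ega4late.H535.CutOut
import Groth.Agent.Div21.K172.CocOrd

/-!
# Orders at closed points and places of the function field

* `unitAt_iff_val`: units at a closed point are the functions of valuation one;
* `ord_eq_div`: the order at a closed point is the multiplicity of the divisor of the function field.
-/

set_option autoImplicit false
universe u
open CategoryTheory AlgebraicGeometry WithZero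

namespace K466.PicVal

open Groth.Agent.MiscA Groth.Agent.MiscA.WCPlace Groth.Agent.MiscA.WCPlaceCrv
  Groth.Agent.MiscA.WCBridge Groth.Agent.MiscA.CurvePlaces
open Groth.Agent.Lefpen.H725.CocDef Groth.Agent.Lefpen.H521.CartierCoc

variable {k : Type u} [Field k] {C : Scheme.{u}} [IsIntegral C] (f : C ⟶ Spec (CommRingCat.of k))
  [Algebra k C.functionField]
  (hk : genericPt C ≫ f = Spec.map (CommRingCat.ofHom (algebraMap k C.functionField)))
  [IsProper f] [Smooth f] (hdim : topologicalKrullDim C = 1)

theorem val_algebraMap_le {t : C.functionField} (h : IsSep k C.functionField t)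
    (x : {x : C // IsClosed ({x} : Set C)}) (a : C.presheaf.stalk x.1) :
    (placeOf f hk hdim x).val (algebraMap _ _ a) ≤ 1 := by
  rw [h.val_le_one_iff, mem_placeOf]
  exact ⟨a, rfl⟩

theorem unitAt_iff_val {t : C.functionField} (h : IsSep k C.functionField t)
    (x : {x : C // IsClosed ({x} : Set C)}) (u : C.functionField) :
    UnitAt x.1 u ↔ (placeOf f hk hdim x).val u = 1 := by
  constructor
  · rintro ⟨U, hx, hη, g, hg, rfl⟩
    obtain ⟨g', hg'⟩ := hg.exists_right_inv
    have hgen : ∀ s : Γ(C, U), ff U hη s =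
        algebraMap (C.presheaf.stalk x.1) C.functionField (C.presheaf.germ U x.1 hx s) := by
      intro s
      exact (TopCat.Presheaf.germ_stalkSpecializes_apply C.presheaf hx (genericPoint_specializes x.1) s).symm
    have h1 : (placeOf f hk hdim x).val (ff U hη g) ≤ 1 := by
      rw [hgen]; exact val_algebraMap_le f hk hdim h x _
    have h2 : (placeOf f hk hdim x).val (ff U hη g') ≤ 1 := by
      rw [hgen]; exact val_algebraMap_le f hk hdim h x _
    have h3 : (placeOf f hk hdim x).val (ff U hη g) * (placeOf f hk hdim x).val (ff U hη g') = 1 := by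
      rw [← map_mul, ← map_mul, hg', map_one, map_one]
    refine le_antisymm h1 ?_
    rw [← h3]
    exact mul_le_of_le_one_right' h2
  · intro hu
    have hu0 : u ≠ 0 := by
      rintro rfl
      rw [map_zero] at hu
      exact zero_ne_one hu
    obtain ⟨a, ha⟩ := (mem_placeOf f hk hdim x u).1 ((h.val_le_one_iff _ _).1 hu.le)
    obtain ⟨b, hb⟩ := (mem_placeOf f hk hdim x u⁻¹).1 ((h.val_le_one_iff _ _).1 (by
      rw [map_inv₀, hu, inv_one]))
    have hab : a * b = 1 := by
      apply IsFractionRing.injective (C.presheaf.stalk x.1) C.functionField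
      rw [map_mul, map_one, ha, hb, mul_inv_cancel₀ hu0]
    have := K172.CocOrd.unitAt_of_isUnit (IsUnit.of_mul_eq_one b hab)
    rwa [ha] at this

theorem unitAt_generic {u : C.functionField} (hu : u ≠ 0) : UnitAt (genericPoint C) u := by
  have : IsUnit (show C.presheaf.stalk (genericPoint C) from u) := IsUnit.mk0 (G₀ := C.functionField) _ hu
  have h3 : C.presheaf.stalkSpecializes (specializes_refl (genericPoint C)) = 𝟙 _ := by
    simp
  have h2 : (C.presheaf.stalkSpecializes (genericPoint_specializes (genericPoint C))).hom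
      (show C.presheaf.stalk (genericPoint C) from u) = u :=
    congrArg (fun z : C.presheaf.stalk (genericPoint C) ⟶
      C.presheaf.stalk (genericPoint C) => z.hom u) h3
  have h1 : UnitAt (genericPoint C) ((C.presheaf.stalkSpecializes
      (genericPoint_specializes (genericPoint C))).hom
        (show C.presheaf.stalk (genericPoint C) from u)) := K172.CocOrd.unitAt_of_isUnit this
  rw [h2] at h1
  exact h1

theorem val_uniformizer {t : C.functionField} (h : IsSep k C.functionField t)
    (x : {x : C // IsClosed ({x} : Set C)}) (π : C.presheaf.stalk x.1)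
    (hπ : IsLocalRing.maximalIdeal (C.presheaf.stalk x.1) = Ideal.span {π}) :
    (placeOf f hk hdim x).val (algebraMap _ _ π) = exp (-1 : ℤ) := by
  obtain ⟨⟨π', hπ'⟩, -⟩ := h.val_spec (placeOf f hk hdim x)
  have hlt : (placeOf f hk hdim x).val (algebraMap _ _ π) < 1 := by
    refine lt_of_le_of_ne (val_algebraMap_le f hk hdim h x π) fun h1 => ?_
    have h2 : π ∈ IsLocalRing.maximalIdeal (C.presheaf.stalk x.1) := by
      rw [hπ]; exact Ideal.mem_span_singleton_self π
    rw [IsLocalRing.mem_maximalIdeal, mem_nonunits_iff] at h2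
    apply h2
    have h0 : algebraMap (C.presheaf.stalk x.1) C.functionField π ≠ 0 := by
      intro h0
      rw [h0, map_zero] at h1
      exact zero_ne_one h1
    obtain ⟨b, hb⟩ := (mem_placeOf f hk hdim x _).1 ((h.val_le_one_iff _ _).1 (by
      rw [map_inv₀, h1, inv_one]) : (algebraMap (C.presheaf.stalk x.1) C.functionField π)⁻¹ ∈ _)
    refine IsUnit.of_mul_eq_one b ?_
    apply IsFractionRing.injective (C.presheaf.stalk x.1) C.functionField
    rw [map_mul, map_one, hb, mul_inv_cancel₀ h0]
  have hle : exp (-1 : ℤ) ≤ (placeOf f hk hdim x).val (algebraMap _ _ π) := by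
    have h1 : (placeOf f hk hdim x).val π' < 1 := by
      rw [hπ', ← exp_zero, exp_lt_exp]; norm_num
    obtain ⟨c, hc⟩ := (mem_placeOf f hk hdim x π').1 ((h.val_le_one_iff _ _).1 h1.le)
    have h2 : c ∈ IsLocalRing.maximalIdeal (C.presheaf.stalk x.1) := by
      rw [IsLocalRing.mem_maximalIdeal, mem_nonunits_iff]
      intro hu
      have h3 := (unitAt_iff_val f hk hdim h x _).1 (K172.CocOrd.unitAt_of_isUnit hu)
      rw [hc] at h3
      exact h1.ne h3
    rw [hπ, Ideal.mem_span_singleton] at h2
    obtain ⟨d, rfl⟩ := h2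
    rw [← hπ', ← hc, map_mul, map_mul]
    exact mul_le_of_le_one_right' (val_algebraMap_le f hk hdim h x d)
  refine le_antisymm ?_ hle
  have h0 : (placeOf f hk hdim x).val (algebraMap _ _ π) ≠ 0 := (exp_pos.trans_le hle).ne'
  rw [← exp_log h0, ← exp_zero, exp_lt_exp] at hlt
  rw [← exp_log h0, exp_le_exp]
  omega

/-- The order at a closed point is the multiplicity of the divisor. -/
theorem ord_eq_div [IsLocallyNoetherian C] (h : ∃ t : C.functionField, IsSep k C.functionField t)
    (x : {x : C // IsClosed ({x} : Set C)}) [IsDiscreteValuationRing (C.presheaf.stalk x.1)]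
    {u : C.functionField} (hu : u ≠ 0) :
    Scheme.ord u x.1 = (crv h).div u (placeOf f hk hdim x) := by
  obtain ⟨t, ht⟩ := h
  obtain ⟨π, hπ⟩ := IsDiscreteValuationRing.exists_irreducible (C.presheaf.stalk x.1)
  have hπ' := (IsDiscreteValuationRing.irreducible_iff_uniformizer π).mp hπ
  have hx : Order.coheight x.1 = 1 := Groth.Agent.Ega4dB.CDivNormal.coheight_eq_one x.1
  have h1 := val_uniformizer f hk hdim ht x π hπ'
  have h2 := Groth.Agent.Ega4late.H535.CutOut.ord_uniformizer x.1 π hπ'
  set ϖ := algebraMap (C.presheaf.stalk x.1) C.functionField π with hϖ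
  have hϖ0 : ϖ ≠ 0 := by
    intro h0
    rw [h0, map_zero] at h1
    exact exp_pos.ne h1
  set n := (crv ⟨t, ht⟩).div u (placeOf f hk hdim x) with hn
  have hv : (placeOf f hk hdim x).val u = exp (-n) := (crv ⟨t, ht⟩).v_eq_exp hu (placeOf f hk hdim x)
  have hw : (placeOf f hk hdim x).val (u * ϖ ^ (-n)) = 1 := by
    rw [map_mul, map_zpow₀, h1, hv, ← exp_zsmul, ← exp_add, ← exp_zero]
    congr 1
    rw [smul_eq_mul]
    ring
  have h3 := K172.CocOrd.ord_of_unitAt ((unitAt_iff_val f hk hdim ht x _).2 hw)
  have hw0 : u * ϖ ^ (-n) ≠ 0 := mul_ne_zero hu (zpow_ne_zero _ hϖ0)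
  have h4 := (Scheme.ord_eq_iff hx hw0 (n := 0)).1 h3
  have h5 := (Scheme.ord_eq_iff hx hϖ0 (n := 1)).1 h2
  rw [Scheme.ord_eq_iff hx hu]
  have h6 : u = (u * ϖ ^ (-n)) * ϖ ^ n := by
    rw [mul_assoc, ← zpow_add₀ hϖ0, neg_add_cancel, zpow_zero, mul_one]
  rw [h6, map_mul, h4, map_zpow₀, h5]
  change exp (0 : ℤ) * exp (1 : ℤ) ^ n = exp n
  rw [← exp_zsmul, ← exp_add]
  congr 1
  rw [smul_eq_mul]
  ring

end K466.PicVal
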